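import Groth.Agent.KFlat.Mon.DM

/-!
The symmetry and associativity maps of `DTen` are those of the symmetric monoidal category `D(A)`.
-/

set_option autoImplicit false

universe u

open CategoryTheory CategoryTheory.Limits MonoidalCategory HomologicalComplex

attribute [local instance] HasDerivedCategory.standard

namespace Groth.Agent.KFlat.Mon

variable {A : Type u} [CommRing A] [DTen.HasLTen A]

/-- An object of `D(A)` in the monoidal category. -/
def dm (a : Dual.D A) : DM A := a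

/-- `LTen` is the monoidal product. -/
noncomputable def θi (a b : Dual.D A) :
    dm ((DTen.LTen₂ A).obj (a, b)) ≅ dm a ⊗ dm b :=
  ((θ A).app a).app b

/-- `LTen` on morphisms, in the monoidal category. -/
noncomputable def ltm {a a' b b' : Dual.D A} (f : dm a ⟶ dm a') (g : dm b ⟶ dm b') :
    dm ((DTen.LTen₂ A).obj (a, b)) ⟶ dm ((DTen.LTen₂ A).obj (a', b')) :=
  (DTen.LTen₂ A).map (X := (a, b)) (Y := (a', b')) (f, g)

lemma θi_natural {a a' b b' : Dual.D A} (f : dm a ⟶ dm a') (g : dm b ⟶ dm b') :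
    ltm f g ≫ (θi a' b').hom = (θi a b).hom ≫ (f ⊗ₘ g) := by
  have h1 := NatTrans.naturality_app (θ A).hom b f
  have h2 := ((θ A).hom.app a').naturality g
  have e : (DTen.LTen₂ A).map (X := (a, b)) (Y := (a', b')) (f, g) =
      ((DTen.LTen A).map f).app b ≫ ((DTen.LTen A).obj a').map g := by
    refine Eq.trans ?_ ((DTen.LTen₂ A).map_comp _ _)
    congr 1
    exact Prod.ext (Category.comp_id _).symm (Category.id_comp _).symm
  rw [tensorHom_def]
  refine (congrArg (fun t => t ≫ (θi a' b').hom) e).trans ?_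
  refine (Category.assoc _ _ _).trans ((congrArg (fun t => _ ≫ t) h2).trans ?_)
  refine (Category.assoc _ _ _).symm.trans ((congrArg (fun t => t ≫ _) h1).trans ?_)
  exact Category.assoc _ _ _

/-- The tensorator of the localization functor. -/
noncomputable def μd (X Y : KF A) : dm ((L A).obj X) ⊗ dm ((L A).obj Y) ≅ dm ((L A).obj (X ⊗ Y)) :=
  Localization.Monoidal.μ (L A) (W A) (ε₀ A) X Y

/-- The localization functor on morphisms, in the monoidal category. -/
noncomputable def Lm {X Y : KF A} (f : X ⟶ Y) : dm ((L A).obj X) ⟶ dm ((L A).obj Y) := (L A).map f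

/-- `DTen.ε` in the monoidal category. -/
noncomputable def εd (X Y : KF A) : dm ((DTen.LTen₂ A).obj ((L A).obj X, (L A).obj Y)) ⟶ dm ((L A).obj (X ⊗ Y)) :=
  (DTen.ε A).app (X.obj, Y.obj)

lemma θi_app (X Y : KF A) : (θi ((L A).obj X) ((L A).obj Y)).hom ≫ (μd X Y).hom = εd X Y :=
  θ_app X Y

omit [DTen.HasLTen A] in
lemma α_app (X Y Z : KF A) : (α_ (dm ((L A).obj X)) (dm ((L A).obj Y)) (dm ((L A).obj Z))).hom =
    (μd X Y).hom ▷ dm ((L A).obj Z) ≫ (μd (X ⊗ Y) Z).hom ≫ Lm (α_ X Y Z).hom ≫ (μd X (Y ⊗ Z)).inv ≫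
      dm ((L A).obj X) ◁ (μd Y Z).inv := by
  rw [← tensorHom_id, ← id_tensorHom]
  exact Localization.Monoidal.associator_hom_app (L A) (W A) (ε₀ A) X Y Z

/-- Comparison of the left bracketing. -/
noncomputable def compL (a b c : Dual.D A) :
    dm ((DTen.LTen₂ A).obj ((DTen.LTen₂ A).obj (a, b), c)) ≅ (dm a ⊗ dm b) ⊗ dm c :=
  θi ((DTen.LTen₂ A).obj (a, b)) c ≪≫ whiskerRightIso (θi a b) (dm c)

/-- Comparison of the right bracketing. -/
noncomputable def compR (a b c : Dual.D A) :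
    dm ((DTen.LTen₂ A).obj (a, (DTen.LTen₂ A).obj (b, c))) ≅ dm a ⊗ (dm b ⊗ dm c) :=
  θi a ((DTen.LTen₂ A).obj (b, c)) ≪≫ whiskerLeftIso (dm a) (θi b c)

variable (A) in
/-- Triples of K-flat complexes, in `D(A)`. -/
noncomputable abbrev LLL : KF A × (KF A × KF A) ⥤ Dual.D A × (Dual.D A × Dual.D A) :=
  (L A).prod ((L A).prod (L A))

lemma compL_natural {a a' b b' c c' : Dual.D A} (f : dm a ⟶ dm a') (g : dm b ⟶ dm b') (h : dm c ⟶ dm c') :
    ltm (ltm f g) h ≫ (compL a' b' c').hom = (compL a b c).hom ≫ ((f ⊗ₘ g) ⊗ₘ h) := by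
  simp only [compL, Iso.trans_hom, whiskerRightIso_hom, Category.assoc]
  rw [reassoc_of% θi_natural]
  refine congrArg (fun t => _ ≫ t) ?_
  rw [← tensorHom_id, ← tensorHom_id, tensorHom_comp_tensorHom, tensorHom_comp_tensorHom, θi_natural,
    Category.comp_id, Category.id_comp]

lemma compR_natural {a a' b b' c c' : Dual.D A} (f : dm a ⟶ dm a') (g : dm b ⟶ dm b') (h : dm c ⟶ dm c') :
    ltm f (ltm g h) ≫ (compR a' b' c').hom = (compR a b c).hom ≫ (f ⊗ₘ (g ⊗ₘ h)) := by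
  simp only [compR, Iso.trans_hom, whiskerLeftIso_hom, Category.assoc]
  rw [reassoc_of% θi_natural]
  refine congrArg (fun t => _ ≫ t) ?_
  rw [← id_tensorHom, ← id_tensorHom, tensorHom_comp_tensorHom, tensorHom_comp_tensorHom, θi_natural,
    Category.comp_id, Category.id_comp]

variable [DTen.HasLTen₃ A] [DTen.IsSymMonoidal A]

omit [DTen.HasLTen₃ A] [DTen.IsSymMonoidal A] in
lemma compR_image (X Y Z : KF A) :
    (compR ((L A).obj X) ((L A).obj Y) ((L A).obj Z)).hom =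
      ltm (𝟙 (dm ((L A).obj X))) (εd Y Z) ≫ εd X (Y ⊗ Z) ≫ (μd X (Y ⊗ Z)).inv ≫ dm ((L A).obj X) ◁ (μd Y Z).inv := by
  have n := θi_natural (𝟙 (dm ((L A).obj X))) (εd Y Z)
  rw [← θi_app X (Y ⊗ Z)]
  simp only [Category.assoc, Iso.hom_inv_id_assoc]
  refine Eq.trans ?_ (Category.assoc _ _ _)
  refine Eq.trans ?_ (congrArg (fun t => t ≫ _) n.symm)
  simp only [compR, Iso.trans_hom, whiskerLeftIso_hom, id_tensorHom, Category.assoc, ← MonoidalCategory.whiskerLeft_comp]
  rw [show εd Y Z ≫ (μd Y Z).inv = (θi ((L A).obj Y) ((L A).obj Z)).hom from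
    (Iso.comp_inv_eq _).2 (θi_app Y Z).symm]

omit [DTen.HasLTen₃ A] [DTen.IsSymMonoidal A] in
lemma compL_image (X Y Z : KF A) :
    (compL ((L A).obj X) ((L A).obj Y) ((L A).obj Z)).hom ≫ (α_ _ _ _).hom =
      ltm (εd X Y) (𝟙 (dm ((L A).obj Z))) ≫ εd (X ⊗ Y) Z ≫ Lm (α_ X Y Z).hom ≫
        (μd X (Y ⊗ Z)).inv ≫ dm ((L A).obj X) ◁ (μd Y Z).inv := by
  have n := θi_natural (εd X Y) (𝟙 (dm ((L A).obj Z)))
  rw [← θi_app (X ⊗ Y) Z, α_app]
  simp only [Category.assoc]
  refine Eq.trans ?_ (Category.assoc _ _ _)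
  refine Eq.trans ?_ (congrArg (fun t => t ≫ _) n.symm)
  simp only [compL, Iso.trans_hom, whiskerRightIso_hom, tensorHom_id, Category.assoc]
  rw [← comp_whiskerRight_assoc, θi_app]

lemma assoc_image (X Y Z : KF A) :
    ((DTen.associator ((L A).obj X) ((L A).obj Y) ((L A).obj Z)).hom :
        dm ((DTen.LTen₂ A).obj ((DTen.LTen₂ A).obj ((L A).obj X, (L A).obj Y), (L A).obj Z)) ⟶
          dm ((DTen.LTen₂ A).obj ((L A).obj X, (DTen.LTen₂ A).obj ((L A).obj Y, (L A).obj Z)))) ≫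
      (compR ((L A).obj X) ((L A).obj Y) ((L A).obj Z)).hom =
    (compL ((L A).obj X) ((L A).obj Y) ((L A).obj Z)).hom ≫ (α_ _ _ _).hom := by
  let T : DRing.Cx A × (DRing.Cx A × DRing.Cx A) := (X.obj, (Y.obj, Z.obj))
  rw [compL_image, compR_image]
  have hl : (DTen.βL A).app T = ltm (εd X Y) (𝟙 (dm ((L A).obj Z))) ≫ εd (X ⊗ Y) Z ≫ Lm (α_ X Y Z).hom := rfl
  have hr : (DTen.βR A).app T = ltm (𝟙 (dm ((L A).obj X))) (εd Y Z) ≫ εd X (Y ⊗ Z) := rfl
  have key : ((DTen.associator ((L A).obj X) ((L A).obj Y) ((L A).obj Z)).hom :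
        dm ((DTen.LTen₂ A).obj ((DTen.LTen₂ A).obj ((L A).obj X, (L A).obj Y), (L A).obj Z)) ⟶
          dm ((DTen.LTen₂ A).obj ((L A).obj X, (DTen.LTen₂ A).obj ((L A).obj Y, (L A).obj Z)))) ≫
      ltm (𝟙 (dm ((L A).obj X))) (εd Y Z) ≫ εd X (Y ⊗ Z) =
      ltm (εd X Y) (𝟙 (dm ((L A).obj Z))) ≫ εd (X ⊗ Y) Z ≫ Lm (α_ X Y Z).hom := by
    refine (congrArg (fun t => _ ≫ t) hr.symm).trans (Eq.trans ?_ hl)
    rw [← DTen.assocR_fac, ← DTen.assocL_fac]
    refine (Category.assoc _ _ _).symm.trans ?_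
    exact congrArg (fun t => t ≫ (DTen.ε₃ A).app T) (DTen.associator_hom_assocR _ _ _)
  have h := congrArg (fun t => t ≫ (μd X (Y ⊗ Z)).inv ≫ dm ((L A).obj X) ◁ (μd Y Z).inv) key
  exact ((congrArg (fun t => _ ≫ t) (Category.assoc _ _ _).symm).trans
    ((Category.assoc _ _ _).symm.trans (h.trans ((Category.assoc _ _ _).trans
      (congrArg (fun t => _ ≫ t) (Category.assoc _ _ _))))))

/-- The associativity of `DTen` is that of `D(A)`. -/
lemma assoc_compat (a b c : Dual.D A) :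
    ((DTen.associator a b c).hom : dm ((DTen.LTen₂ A).obj ((DTen.LTen₂ A).obj (a, b), c)) ⟶
        dm ((DTen.LTen₂ A).obj (a, (DTen.LTen₂ A).obj (b, c)))) ≫ (compR a b c).hom =
      (compL a b c).hom ≫ (α_ (dm a) (dm b) (dm c)).hom := by
  have nat {a a' b b' c c' : Dual.D A} (f : dm a ⟶ dm a') (g : dm b ⟶ dm b') (h : dm c ⟶ dm c') :
      ltm (ltm f g) h ≫ (compL a' b' c').hom ≫ (α_ (dm a') (dm b') (dm c')).hom ≫ (compR a' b' c').inv =
        ((compL a b c).hom ≫ (α_ (dm a) (dm b) (dm c)).hom ≫ (compR a b c).inv) ≫ ltm f (ltm g h) := by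
    rw [reassoc_of% compL_natural, MonoidalCategory.associator_naturality_assoc]
    simp only [Category.assoc]
    refine congrArg (fun t => _ ≫ _ ≫ t) ?_
    rw [Iso.eq_inv_comp, ← Category.assoc, ← compR_natural, Category.assoc, Iso.hom_inv_id, Category.comp_id]
  let δ : DTen.LTenL A ⟶ DTen.LTenR A :=
    { app := fun X => (compL X.1 X.2.1 X.2.2).hom ≫ (α_ (dm X.1) (dm X.2.1) (dm X.2.2)).hom ≫ (compR X.1 X.2.1 X.2.2).inv
      naturality := fun _ _ f => nat f.1 f.2.1 f.2.2 }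
  have key : DTen.assocL A ≫ inv (DTen.assocR A) = δ :=
    Localization.natTrans_ext (LLL A) ((W A).prod ((W A).prod (W A))) fun X => by
      have e : (DTen.assocL A ≫ inv (DTen.assocR A)).app ((LLL A).obj X) =
          (DTen.associator ((L A).obj X.1) ((L A).obj X.2.1) ((L A).obj X.2.2)).hom := rfl
      refine e.trans ?_
      exact ((Iso.eq_comp_inv _).2 (assoc_image X.1 X.2.1 X.2.2)).trans (Category.assoc _ _ _)
  have h := congrArg (fun t : NatTrans _ _ => t.app (a, (b, c))) key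
  have e : (DTen.assocL A ≫ inv (DTen.assocR A)).app (a, (b, c)) = (DTen.associator a b c).hom := rfl
  refine (congrArg (fun t => t ≫ (compR a b c).hom) (e.symm.trans h)).trans ?_
  exact (Category.assoc _ _ _).trans (congrArg (fun t => _ ≫ t)
    ((Category.assoc _ _ _).trans ((congrArg (fun t => _ ≫ t) (Iso.inv_hom_id _)).trans (Category.comp_id _))))

omit [DTen.HasLTen₃ A] [DTen.IsSymMonoidal A] in
/-- The symmetry of `DTen` is the braiding of `D(A)`. -/
lemma symm_compat (a b : Dual.D A) :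
    ((DTen.symm A).app (a, b) : dm ((DTen.LTen₂ A).obj (b, a)) ⟶ dm ((DTen.LTen₂ A).obj (a, b))) ≫ (θi a b).hom =
      (θi b a).hom ≫ (β_ (dm b) (dm a)).hom := by
  have nat {a a' b b' : Dual.D A} (f : dm a ⟶ dm a') (g : dm b ⟶ dm b') :
      ltm g f ≫ (θi b' a').hom ≫ (β_ (dm b') (dm a')).hom ≫ (θi a' b').inv =
        ((θi b a).hom ≫ (β_ (dm b) (dm a)).hom ≫ (θi a b).inv) ≫ ltm f g := by
    rw [reassoc_of% θi_natural, BraidedCategory.braiding_naturality_assoc]
    simp only [Category.assoc]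
    refine congrArg (fun t => _ ≫ _ ≫ t) ?_
    rw [Iso.eq_inv_comp, ← Category.assoc, ← θi_natural, Category.assoc, Iso.hom_inv_id, Category.comp_id]
  let δ : CategoryTheory.Prod.swap _ _ ⋙ DTen.LTen₂ A ⟶ DTen.LTen₂ A :=
    { app := fun X => (θi X.2 X.1).hom ≫ (β_ (dm X.2) (dm X.1)).hom ≫ (θi X.1 X.2).inv
      naturality := fun _ _ f => nat f.1 f.2 }
  have key : DTen.symm A = δ :=
    Localization.natTrans_ext ((L A).prod (L A)) ((W A).prod (W A)) fun X => by
      obtain ⟨X, Y⟩ := X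
      have := isIso_ε X.obj Y.obj (Or.inl X.2)
      refine (cancel_mono ((DTen.ε A).app (X.obj, Y.obj))).1 ?_
      refine (DTen.symm_fac A X.obj Y.obj).trans ?_
      have hb : (β_ (dm ((L A).obj Y)) (dm ((L A).obj X))).hom = (μd Y X).hom ≫ Lm (β_ Y X).hom ≫ (μd X Y).inv :=
        Localization.Monoidal.β_hom_app (L A) (W A) (ε₀ A) Y X
      have h2 : εd Y X ≫ Lm (β_ Y X).hom =
          ((θi ((L A).obj Y) ((L A).obj X)).hom ≫ (β_ (dm ((L A).obj Y)) (dm ((L A).obj X))).hom ≫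
            (θi ((L A).obj X) ((L A).obj Y)).inv) ≫ εd X Y := by
        rw [← θi_app X Y, hb, ← θi_app Y X]
        simp
      exact h2
  have h := congrArg (fun t : NatTrans _ _ => t.app (a, b)) key
  refine (congrArg (fun t => t ≫ (θi a b).hom) h).trans ?_
  exact (Category.assoc _ _ _).trans (congrArg (fun t => _ ≫ t)
    ((Category.assoc _ _ _).trans ((congrArg (fun t => _ ≫ t) (Iso.inv_hom_id _)).trans (Category.comp_id _))))

end Groth.Agent.KFlat.Mon
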