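import Mathlib.CategoryTheory.Monoidal.Rigid.Basic
import Mathlib.CategoryTheory.Monoidal.Rigid.Braided
import Mathlib.CategoryTheory.Adjunction.Unique
import Mathlib.Tactic.CategoryTheory.Monoidal.Basic

/-!
Evaluation maps of a closed monoidal category, and their invertibility on dualizable objects.
-/

set_option autoImplicit false

universe v u v' u'

open CategoryTheory MonoidalCategory

namespace Groth.Agent.KFlat.Mon

variable {C : Type u} [Category.{v} C] [MonoidalCategory C]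

/-- The image of an exact pairing by a monoidal functor. -/
@[instance_reducible]
def mapPairing {D : Type u'} [Category.{v'} D] [MonoidalCategory D] (F : C ⥤ D) [F.Monoidal] (X Y : C)
    [ExactPairing X Y] : ExactPairing (F.obj X) (F.obj Y) where
  coevaluation' := Functor.LaxMonoidal.ε F ≫ F.map (η_ X Y) ≫ Functor.OplaxMonoidal.δ F X Y
  evaluation' := Functor.LaxMonoidal.μ F Y X ≫ F.map (ε_ X Y) ≫ Functor.OplaxMonoidal.η F
  coevaluation_evaluation' := by
    have h := congrArg F.map (ExactPairing.coevaluation_evaluation X Y)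
    simp only [Functor.map_comp, Functor.Monoidal.map_whiskerLeft, Functor.Monoidal.map_whiskerRight,
      Functor.Monoidal.map_associator_inv, Functor.Monoidal.map_rightUnitor, Functor.Monoidal.map_leftUnitor_inv,
      Category.assoc, Functor.Monoidal.μ_δ_assoc] at h
    have h' := congrArg (fun t => F.obj Y ◁ Functor.LaxMonoidal.ε F ≫ Functor.LaxMonoidal.μ F Y (𝟙_ C) ≫ t ≫
      Functor.OplaxMonoidal.δ F (𝟙_ C) Y ≫ Functor.OplaxMonoidal.η F ▷ F.obj Y) h
    simp only [MonoidalCategory.whiskerLeft_comp, comp_whiskerRight, Category.assoc]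
    simp only [Category.assoc, Functor.Monoidal.μ_δ_assoc] at h'
    simpa using h'
  evaluation_coevaluation' := by
    have h := congrArg F.map (ExactPairing.evaluation_coevaluation X Y)
    simp only [Functor.map_comp, Functor.Monoidal.map_whiskerLeft, Functor.Monoidal.map_whiskerRight,
      Functor.Monoidal.map_associator, Functor.Monoidal.map_rightUnitor_inv, Functor.Monoidal.map_leftUnitor,
      Category.assoc, Functor.Monoidal.μ_δ_assoc] at h
    have h' := congrArg (fun t => Functor.LaxMonoidal.ε F ▷ F.obj X ≫ Functor.LaxMonoidal.μ F (𝟙_ C) X ≫ t ≫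
      Functor.OplaxMonoidal.δ F X (𝟙_ C) ≫ F.obj X ◁ Functor.OplaxMonoidal.η F) h
    simp only [MonoidalCategory.whiskerLeft_comp, comp_whiskerRight, Category.assoc]
    simp only [Category.assoc, Functor.Monoidal.μ_δ_assoc] at h'
    simpa using h'

variable {M : C} {G : C ⥤ C} (adj : tensorRight M ⊣ G)

/-- The counit, as a map `G X ⊗ M ⟶ X`. -/
def cu (X : C) : G.obj X ⊗ M ⟶ X := adj.counit.app X

lemma homEquiv_symm_cu {X Y : C} (g : X ⟶ G.obj Y) : (adj.homEquiv X Y).symm g = g ▷ M ≫ cu adj Y :=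
  adj.homEquiv_counit X Y g

/-- `K ⊗ G L ⟶ G (K ⊗ L)`. -/
def evalT (K L : C) : K ⊗ G.obj L ⟶ G.obj (K ⊗ L) :=
  adj.homEquiv _ _ ((α_ K (G.obj L) M).hom ≫ K ◁ cu adj L)

lemma evalT_fac (K L : C) :
    evalT adj K L ▷ M ≫ cu adj (K ⊗ L) = (α_ K (G.obj L) M).hom ≫ K ◁ cu adj L := by
  rw [← homEquiv_symm_cu]
  exact (adj.homEquiv (K ⊗ G.obj L) (K ⊗ L)).left_inv _

/-- The case of a dualizable `K`. -/
theorem isIso_evalT_left (K N L : C) [ExactPairing K N] : IsIso (evalT adj K L) := by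
  refine isIso_of_yoneda_map_bijective _ fun X => ?_
  have key : ∀ g : X ⟶ K ⊗ G.obj L,
      g ≫ evalT adj K L = adj.homEquiv _ _ (tensorLeftHomEquiv _ K N _
        ((α_ N X M).inv ≫ (adj.homEquiv _ _).symm ((tensorLeftHomEquiv _ K N _).symm g))) := by
    intro g
    refine (adj.homEquiv _ _).symm.injective ?_
    rw [Equiv.symm_apply_apply, ← Equiv.symm_apply_eq, homEquiv_symm_cu, homEquiv_symm_cu,
      comp_whiskerRight, Category.assoc, evalT_fac]
    simp only [tensorLeftHomEquiv, Equiv.coe_fn_symm_mk]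
    dsimp
    calc _ = 𝟙 _ ⊗≫ (N ◁ g) ▷ M ⊗≫ ((N ⊗ K) ◁ cu adj L ≫ ε_ K N ▷ L) ⊗≫ 𝟙 _ := by monoidal
      _ = 𝟙 _ ⊗≫ (N ◁ g) ▷ M ⊗≫ (ε_ K N ▷ (G.obj L ⊗ M) ≫ 𝟙_ C ◁ cu adj L) ⊗≫ 𝟙 _ := by
        rw [whisker_exchange]
      _ = _ := by monoidal
  have e : (fun g : X ⟶ K ⊗ G.obj L => g ≫ evalT adj K L) =
      ⇑((((tensorLeftHomEquiv X K N (G.obj L)).symm.trans (adj.homEquiv (N ⊗ X) L).symm).trans
        ((α_ N X M).homCongr (Iso.refl L))).trans
          ((tensorLeftHomEquiv (X ⊗ M) K N L).trans (adj.homEquiv X (K ⊗ L)))) := by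
    funext g
    rw [key]
    simp [Iso.homCongr]
  exact e ▸ Equiv.bijective _

lemma isIso_evalT_iff {G' : C ⥤ C} (adj' : tensorRight M ⊣ G') (K L : C) :
    IsIso (evalT adj K L) ↔ IsIso (evalT adj' K L) := by
  let e := adj.rightAdjointUniq adj'
  have hc : ∀ X, e.hom.app X ▷ M ≫ cu adj' X = cu adj X := fun X =>
    adj.rightAdjointUniq_hom_app_counit adj' X
  have h : evalT adj K L ≫ e.hom.app (K ⊗ L) = K ◁ e.hom.app L ≫ evalT adj' K L := by
    refine (adj'.homEquiv _ _).symm.injective ?_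
    simp only [homEquiv_symm_cu, comp_whiskerRight, Category.assoc, hc, evalT_fac,
      associator_naturality_middle_assoc, ← MonoidalCategory.whiskerLeft_comp]
  constructor
  · intro _
    have : IsIso (K ◁ e.hom.app L ≫ evalT adj' K L) := h ▸ inferInstance
    exact IsIso.of_isIso_comp_left (K ◁ e.hom.app L) _
  · intro _
    have : IsIso (evalT adj K L ≫ e.hom.app (K ⊗ L)) := h ▸ inferInstance
    exact IsIso.of_isIso_comp_right _ (e.hom.app (K ⊗ L))

/-- The case of a dualizable `M`. -/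
theorem isIso_evalT_right (K L N : C) [ExactPairing M N] : IsIso (evalT adj K L) := by
  rw [isIso_evalT_iff adj (tensorRightAdjunction M N)]
  have hc : ∀ X : C, cu (tensorRightAdjunction M N) X =
      (α_ X N M).hom ≫ X ◁ ε_ M N ≫ (ρ_ X).hom := fun X => by
    simp [cu, tensorRightAdjunction, tensorRightHomEquiv]
  have : evalT (tensorRightAdjunction M N) K L = (α_ K L N).inv := by
    refine ((tensorRightAdjunction M N).homEquiv _ _).symm.injective ?_
    rw [homEquiv_symm_cu, homEquiv_symm_cu, evalT_fac, hc, hc]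
    dsimp
    monoidal
  rw [this]
  exact inferInstanceAs (IsIso (α_ K L N).inv)

variable [BraidedCategory C]

/-- `G L M ⊗ K ⟶ G P M`, for a map `P ⊗ K ⟶ L`. -/
def evalH {L P : C} {GL GP : C ⥤ C} (adjL : tensorRight L ⊣ GL) (adjP : tensorRight P ⊣ GP) {K : C}
    (c : P ⊗ K ⟶ L) (M : C) : GL.obj M ⊗ K ⟶ GP.obj M :=
  adjP.homEquiv _ _ ((α_ _ _ _).hom ≫ GL.obj M ◁ ((β_ K P).hom ≫ c) ≫ cu adjL M)

/-- The two evaluations on `K`, through the braiding. -/
lemma braiding_evaluation (K N L : C) [ExactPairing K N] :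
    K ◁ (β_ N L).hom ≫ (β_ K (L ⊗ N)).hom ≫ (α_ L N K).hom ≫ L ◁ ε_ K N ≫ (ρ_ L).hom =
      (α_ K N L).inv ≫ ((β_ K N).hom ≫ ε_ K N) ▷ L ≫ (λ_ L).hom := by
  have h1 : ((β_ K N).hom ≫ ε_ K N) ▷ L ≫ (λ_ L).hom =
      (β_ (K ⊗ N) L).hom ≫ L ◁ ((β_ K N).hom ≫ ε_ K N) ≫ (ρ_ L).hom := by
    rw [← BraidedCategory.braiding_naturality_left_assoc, braiding_rightUnitor]
  rw [h1, BraidedCategory.braiding_tensor_right_hom, BraidedCategory.braiding_tensor_left_hom]
  simp

/-- The evaluation `G L M ⊗ K ⟶ G (G' L) M` for a dualizable `K`. -/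
theorem isIso_evalH {L P : C} {GL GP : C ⥤ C} (adjL : tensorRight L ⊣ GL) (adjP : tensorRight P ⊣ GP) {K : C}
    (N : C) [ExactPairing K N] (w : L ⊗ N ≅ P) (c : P ⊗ K ⟶ L)
    (hc : w.hom ▷ K ≫ c = (α_ L N K).hom ≫ L ◁ ε_ K N ≫ (ρ_ L).hom) (M : C) :
    IsIso (evalH adjL adjP c M) := by
  let : ExactPairing N K := BraidedCategory.exactPairing_swap K N
  have hswap : ε_ N K = (β_ K N).hom ≫ ε_ K N := rfl
  refine isIso_of_yoneda_map_bijective _ fun X => ?_
  let u : (X ⊗ N) ⊗ L ≅ X ⊗ P := α_ X N L ≪≫ whiskerLeftIso X (β_ N L ≪≫ w)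
  let E := (((tensorRightHomEquiv X N K (GL.obj M)).symm.trans (adjL.homEquiv (X ⊗ N) M).symm).trans
    (u.homCongr (Iso.refl M))).trans (adjP.homEquiv X M)
  have e : (fun g : X ⟶ GL.obj M ⊗ K => g ≫ evalH adjL adjP c M) = ⇑E := by
    funext g
    refine (adjP.homEquiv _ _).symm.injective ?_
    simp only [E, Equiv.trans_apply, Equiv.symm_apply_apply, Iso.homCongr_apply, Iso.refl_hom, Category.comp_id]
    rw [evalH, adjP.homEquiv_naturality_left_symm, Equiv.symm_apply_apply, homEquiv_symm_cu]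
    dsimp
    rw [← cancel_epi u.hom, Iso.hom_inv_id_assoc]
    simp only [u, Iso.trans_hom, whiskerLeftIso_hom, tensorRightHomEquiv, Equiv.coe_fn_symm_mk, hswap]
    have hb : K ◁ w.hom ≫ (β_ K P).hom ≫ c = (β_ K (L ⊗ N)).hom ≫ (α_ L N K).hom ≫ L ◁ ε_ K N ≫ (ρ_ L).hom := by
      rw [BraidedCategory.braiding_naturality_right_assoc, hc]
    calc _ = (α_ X N L).hom ≫ g ▷ (N ⊗ L) ≫ (α_ _ _ _).hom ≫
          GL.obj M ◁ (K ◁ (β_ N L).hom ≫ K ◁ w.hom ≫ (β_ K P).hom ≫ c) ≫ cu adjL M := by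
          simp only [whiskerLeft_comp, Category.assoc]
          rw [← associator_naturality_right_assoc, ← associator_naturality_right_assoc, whisker_exchange_assoc,
            whisker_exchange_assoc]
      _ = _ := by
          rw [hb, braiding_evaluation]
          monoidal
  exact e ▸ E.bijective

end Groth.Agent.KFlat.Mon
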