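import Groth.Agent.KFlat.Mon.Braided
import Groth.Prelude.Def_DRing2
import Mathlib.LinearAlgebra.Contraction
import Mathlib.Data.Int.Interval
import Mathlib.CategoryTheory.Monoidal.Rigid.Basic

/-!
Bounded complexes of finite projective modules are dualizable.
-/

set_option autoImplicit false

universe u

open CategoryTheory CategoryTheory.Limits MonoidalCategory HomologicalComplex

namespace Groth.Agent.KFlat.Mon

variable {A : Type u} [CommRing A]

lemma units_smul_whiskerRight {X Y Z V : ModuleCat.{u} A} (s : ℤˣ) (f : X ⟶ Y) (g : Y ⊗ V ⟶ Z) :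
    (s • f) ▷ V ≫ g = s • (f ▷ V ≫ g) := by
  rcases Int.units_eq_one_or s with rfl | rfl <;> simp [whiskerRight_neg']

lemma whiskerLeft_units_smul {X Y Z V : ModuleCat.{u} A} (s : ℤˣ) (f : X ⟶ Y) (g : V ⊗ Y ⟶ Z) :
    V ◁ (s • f) ≫ g = s • (V ◁ f ≫ g) := by
  rcases Int.units_eq_one_or s with rfl | rfl <;> simp [whiskerLeft_neg']

section Module

open TensorProduct

variable (V : ModuleCat.{u} A)

/-- The dual module. -/
abbrev dualM : ModuleCat.{u} A := ModuleCat.of A (Module.Dual A V)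

/-- The dual map. -/
def dualMapM {V W : ModuleCat.{u} A} (f : V ⟶ W) : dualM W ⟶ dualM V := ModuleCat.ofHom f.hom.dualMap

/-- Evaluation of functionals. -/
def contr : dualM V ⊗ V ⟶ 𝟙_ (ModuleCat.{u} A) := ModuleCat.ofHom (contractLeft A V)

lemma dualMapM_zero (V W : ModuleCat.{u} A) : dualMapM (0 : V ⟶ W) = 0 :=
  ModuleCat.hom_ext (LinearMap.ext fun φ => LinearMap.ext fun v => map_zero φ)

lemma dualMapM_contr {W : ModuleCat.{u} A} (f : V ⟶ W) : dualMapM f ▷ V ≫ contr V = dualM W ◁ f ≫ contr W := by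
  apply ModuleCat.hom_ext
  exact TensorProduct.ext' fun φ x => rfl

variable [Module.Finite A V] [Module.Projective A V]

/-- The canonical element of `V ⊗ V^∨`. -/
noncomputable def coevElt : V ⊗[A] Module.Dual A V :=
  TensorProduct.comm A _ _ ((dualTensorHomEquiv A V V).symm LinearMap.id)

/-- The coevaluation. -/
noncomputable def coev : 𝟙_ (ModuleCat.{u} A) ⟶ V ⊗ dualM V :=
  ModuleCat.ofHom (LinearMap.toSpanSingleton A _ (coevElt V))

lemma comm_coevElt : dualTensorHom A V V (TensorProduct.comm A _ _ (coevElt V)) = LinearMap.id := by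
  have : TensorProduct.comm A V (Module.Dual A V) (coevElt V) = (dualTensorHomEquiv A V V).symm LinearMap.id := by
    simp [coevElt]
  rw [this]
  exact (dualTensorHomEquiv A V V).apply_symm_apply _

lemma coev_natural {W : ModuleCat.{u} A} [Module.Finite A W] [Module.Projective A W] (f : V ⟶ W) :
    coev V ≫ f ▷ dualM V = coev W ≫ W ◁ dualMapM f := by
  apply ModuleCat.hom_ext
  apply LinearMap.ext_ring
  simp only [coev, ModuleCat.hom_comp, LinearMap.comp_apply, ModuleCat.hom_ofHom]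
  erw [LinearMap.toSpanSingleton_apply, one_smul, LinearMap.toSpanSingleton_apply, one_smul]
  refine (TensorProduct.comm A W (Module.Dual A V)).injective ((dualTensorHom_bijective (R := A) (M := V) (N := W)).injective ?_)
  have h1 : ∀ s : V ⊗[A] Module.Dual A V, dualTensorHom A V W (TensorProduct.comm A _ _ (f.hom.rTensor _ s)) =
      f.hom ∘ₗ dualTensorHom A V V (TensorProduct.comm A _ _ s) := by
    intro s
    induction s with
    | zero => simp
    | tmul x φ => ext v; simp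
    | add a b ha hb => simp only [map_add, ha, hb, LinearMap.comp_add]
  have h2 : ∀ s : W ⊗[A] Module.Dual A W, dualTensorHom A V W (TensorProduct.comm A _ _ (f.hom.dualMap.lTensor _ s)) =
      dualTensorHom A W W (TensorProduct.comm A _ _ s) ∘ₗ f.hom := by
    intro s
    induction s with
    | zero => simp
    | tmul x φ => ext v; simp
    | add a b ha hb => simp only [map_add, ha, hb, LinearMap.add_comp]
  exact (h1 _).trans ((by rw [comm_coevElt, comm_coevElt]; rfl : _ = _).trans (h2 _).symm)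

lemma zigzag_left : (λ_ V).inv ≫ coev V ▷ V ≫ (α_ V (dualM V) V).hom ≫ V ◁ contr V = (ρ_ V).inv := by
  apply ModuleCat.hom_ext
  ext v
  have h : ∀ s : V ⊗[A] Module.Dual A V,
      (contractLeft A V).lTensor V (TensorProduct.assoc A _ _ _ (s ⊗ₜ[A] v)) =
        (dualTensorHom A V V (TensorProduct.comm A _ _ s) v) ⊗ₜ[A] (1 : A) := by
    intro s
    induction s with
    | zero => simp
    | tmul x φ => simp [TensorProduct.smul_tmul]
    | add a b ha hb => simp [map_add, add_tmul, ha, hb]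
  change (contractLeft A V).lTensor V (TensorProduct.assoc A _ _ _
    (LinearMap.toSpanSingleton A _ (coevElt V) (1 : A) ⊗ₜ[A] v)) = v ⊗ₜ[A] (1 : A)
  rw [LinearMap.toSpanSingleton_apply, one_smul, h, comm_coevElt]
  rfl

lemma zigzag_right : (ρ_ (dualM V)).inv ≫ dualM V ◁ coev V ≫ (α_ (dualM V) V (dualM V)).inv ≫ contr V ▷ dualM V =
    (λ_ (dualM V)).inv := by
  apply ModuleCat.hom_ext
  refine LinearMap.ext fun φ => ?_
  have h : ∀ s : V ⊗[A] Module.Dual A V,
      (contractLeft A V).rTensor (Module.Dual A V) ((TensorProduct.assoc A _ _ _).symm ((φ : Module.Dual A V) ⊗ₜ[A] s)) =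
        (1 : A) ⊗ₜ[A] ((φ : Module.Dual A V) ∘ₗ dualTensorHom A V V (TensorProduct.comm A _ _ s)) := by
    intro s
    induction s with
    | zero => simp
    | tmul x ψ =>
      rw [show (φ : Module.Dual A V) ∘ₗ dualTensorHom A V V (TensorProduct.comm A _ _ (x ⊗ₜ[A] ψ)) =
        (φ : Module.Dual A V) x • ψ from LinearMap.ext fun v => by simp [mul_comm]]
      simp [TensorProduct.tmul_smul, TensorProduct.smul_tmul']
    | add a b ha hb => simp [map_add, tmul_add, ha, hb, LinearMap.comp_add]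
  change (contractLeft A V).rTensor (Module.Dual A V) ((TensorProduct.assoc A _ _ _).symm
    ((φ : Module.Dual A V) ⊗ₜ[A] LinearMap.toSpanSingleton A _ (coevElt V) (1 : A))) = (1 : A) ⊗ₜ[A] φ
  rw [LinearMap.toSpanSingleton_apply, one_smul, h, comm_coevElt]
  rfl

end Module

variable (P : DRing.Cx A)

/-- The dual complex. -/
noncomputable def dualCx : DRing.Cx A where
  X p := dualM (P.X (-p))
  d p p' := (p + 1).negOnePow • dualMapM (P.d (-p') (-p))
  shape p p' h := by
    rw [P.shape _ _ (fun e => h (by have e' : -p' + 1 = -p := e; show p + 1 = p'; omega)), dualMapM_zero, smul_zero]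
  d_comp_d' p q r _ _ := by
    have : dualMapM (P.d (-q) (-p)) ≫ dualMapM (P.d (-r) (-q)) = 0 := by
      apply ModuleCat.hom_ext
      refine LinearMap.ext fun φ => LinearMap.ext fun v => ?_
      exact (congrArg (fun t => φ (t.hom v)) (P.d_comp_d (-r) (-q) (-p))).trans (map_zero φ)
    rcases Int.units_eq_one_or (p + 1).negOnePow with e | e <;>
      rcases Int.units_eq_one_or (q + 1).negOnePow with e' | e' <;>
        simp [e, e', this, Units.smul_def]

/-- The evaluation on a summand. -/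
noncomputable def evPQ (p q : ℤ) (h : p + q = 0) : (dualCx P).X p ⊗ P.X q ⟶ 𝟙_ (ModuleCat.{u} A) :=
  dualM (P.X (-p)) ◁ (P.XIsoOfEq (show q = -p by omega)).hom ≫ contr _

lemma evPQ_self (n : ℤ) : evPQ P n (-n) (by omega) = contr (P.X (-n)) := by
  simp [evPQ]
  rfl

/-- The evaluation between opposite degrees. -/
noncomputable def contrP (n : ℤ) : (dualCx P).X n ⊗ P.X (-n) ⟶ 𝟙_ (ModuleCat.{u} A) := contr _

lemma evPQ_self' (n : ℤ) : evPQ P n (-n) (by omega) = contrP P n := evPQ_self P n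

/-- The transpose of the differential, without the sign. -/
noncomputable def dd (p r : ℤ) : (dualCx P).X p ⟶ (dualCx P).X r := dualMapM (P.d (-r) (-p))

/-- The evaluation in degree zero. -/
noncomputable def ev₀ : (dualCx P ⊗ P).X 0 ⟶ 𝟙_ (ModuleCat.{u} A) :=
  mapBifunctorDesc fun p q h => evPQ P p q h

lemma ι_ev₀ (p q : ℤ) (h : p + q = 0) : ιTensorObj (dualCx P) P p q 0 h ≫ ev₀ P = evPQ P p q h :=
  ι_mapBifunctorDesc _ p q h

lemma d_ev₀ (p q : ℤ) (h : p + q = -1) :
    ιTensorObj (dualCx P) P p q (-1) h ≫ (dualCx P ⊗ P).d (-1) 0 ≫ ev₀ P = 0 := by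
  refine (congrArg (fun t => ιTensorObj (dualCx P) P p q (-1) h ≫ t ≫ ev₀ P)
    (mapBifunctor.d_eq (dualCx P) P (curriedTensor (ModuleCat.{u} A)) (ComplexShape.up ℤ) (-1) 0)).trans ?_
  simp only [Preadditive.add_comp, Preadditive.comp_add, mapBifunctor.ι_D₁_assoc, mapBifunctor.ι_D₂_assoc]
  erw [mapBifunctor.d₁_eq _ _ _ _ (show p + 1 = p + 1 from rfl) q 0 (show p + 1 + q = 0 by omega),
    mapBifunctor.d₂_eq _ _ _ _ p (show q + 1 = q + 1 from rfl) 0 (show p + (q + 1) = 0 by omega)]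
  simp only [Linear.units_smul_comp, Category.assoc]
  erw [ι_ev₀, ι_ev₀]
  have key : ((dualCx P).d p (p + 1)) ▷ P.X q ≫ evPQ P (p + 1) q (by omega) =
      (p + 1).negOnePow • ((dualCx P).X p ◁ P.d q (q + 1) ≫ evPQ P p (q + 1) (by omega)) := by
    obtain rfl : q = -(p + 1) := by omega
    rw [evPQ_self]
    refine (units_smul_whiskerRight _ (dualMapM (P.d (-(p + 1)) (-p))) (contr _)).trans (congrArg (fun t => (p + 1).negOnePow • t) ?_)
    refine (dualMapM_contr _ _).trans ?_
    show _ = dualM (P.X (-p)) ◁ P.d (-(p + 1)) (-(p + 1) + 1) ≫ dualM (P.X (-p)) ◁ (P.XIsoOfEq _).hom ≫ contr _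
    rw [← whiskerLeft_comp_assoc, P.d_comp_XIsoOfEq_hom]
  simp only [ComplexShape.ε₁_def, ComplexShape.ε₂_def]
  erw [key]
  simp [Int.negOnePow_succ]

/-- The evaluation. -/
noncomputable def evCx : dualCx P ⊗ P ⟶ 𝟙_ (DRing.Cx A) :=
  mkHomToSingle (ev₀ P) fun i hi => by
    obtain rfl : i = -1 := by have hi' : i + 1 = 0 := hi; omega
    refine mapBifunctor.hom_ext fun p q h => ?_
    exact (d_ev₀ P p q h).trans comp_zero.symm

lemma evCx_f_zero : (evCx P).f 0 = ev₀ P ≫ (singleObjXSelf (ComplexShape.up ℤ) 0 (𝟙_ (ModuleCat.{u} A))).inv :=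
  mkHomToSingle_f _ _

lemma evCx_f_ne (n : ℤ) (hn : n ≠ 0) : (evCx P).f n = 0 :=
  (isZero_single_obj_X (ComplexShape.up ℤ) 0 _ n hn).eq_of_tgt _ _

variable (hP : DRing.TermwiseFiniteProjective P)
include hP

/-- The coevaluation on a summand. -/
noncomputable def coevP (p : ℤ) : 𝟙_ (ModuleCat.{u} A) ⟶ P.X (-p) ⊗ (dualCx P).X p :=
  have := (hP (-p)).1; have := (hP (-p)).2
  coev (P.X (-p))

variable (s : Finset ℤ)

/-- The coevaluation in degree zero, as a sum over a finite set of degrees. -/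
noncomputable def coev₀ : 𝟙_ (ModuleCat.{u} A) ⟶ (P ⊗ dualCx P).X 0 :=
  ∑ p ∈ s, coevP P hP p ≫ ιTensorObj P (dualCx P) (-p) p 0 (by simp)

/-- The image of a summand of the coevaluation by the differential of the dual. -/
noncomputable def coevD (p : ℤ) : 𝟙_ (ModuleCat.{u} A) ⟶ (P ⊗ dualCx P).X 1 :=
  coevP P hP p ≫ P.X (-p) ◁ dd P p (p + 1) ≫ ιTensorObj P (dualCx P) (-p) (p + 1) 1 (by simp)

lemma coevD_eq (p r : ℤ) (hr : p + 1 = r) :
    coevD P hP p = coevP P hP p ≫ P.X (-p) ◁ dd P p r ≫ ιTensorObj P (dualCx P) (-p) r 1 (by omega) := by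
  subst hr; rfl

lemma coev_d (p : ℤ) :
    (coevP P hP p ≫ ιTensorObj P (dualCx P) (-p) p 0 (by simp)) ≫ (P ⊗ dualCx P).d 0 1 =
      coevD P hP (p - 1) - coevD P hP p := by
  refine (congrArg (fun t => (coevP P hP p ≫ ιTensorObj P (dualCx P) (-p) p 0 (by simp)) ≫ t)
    (mapBifunctor.d_eq P (dualCx P) (curriedTensor (ModuleCat.{u} A)) (ComplexShape.up ℤ) 0 1)).trans ?_
  simp only [Preadditive.comp_add, Category.assoc, mapBifunctor.ι_D₁, mapBifunctor.ι_D₂]
  erw [mapBifunctor.d₁_eq _ _ _ _ (show -p + 1 = -(p - 1) by omega) p 1 (show -(p - 1) + p = 1 by omega),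
    mapBifunctor.d₂_eq _ _ _ _ (-p) (show p + 1 = p + 1 from rfl) 1 (show -p + (p + 1) = 1 by omega)]
  rw [sub_eq_add_neg (coevD P hP (p - 1))]
  refine congrArg₂ (· + ·) ?_ ?_
  · rw [coevD_eq P hP (p - 1) p (by omega)]
    simp only [ComplexShape.ε₁_def, one_smul, curriedTensor_map_app, ← Category.assoc]
    refine congrArg (fun t => t ≫ _) ?_
    have := (hP (-p)).1; have := (hP (-p)).2
    have := (hP (-(p - 1))).1; have := (hP (-(p - 1))).2
    exact coev_natural (P.X (-p)) (P.d (-p) (-(p - 1)))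
  · refine (congrArg (fun t => coevP P hP p ≫ ((-p).negOnePow • t))
      (whiskerLeft_units_smul (p + 1).negOnePow (dd P p (p + 1))
        (ιTensorObj P (dualCx P) (-p) (p + 1) 1 (by omega)))).trans ?_
    rw [smul_smul, Linear.comp_units_smul, show (-p).negOnePow * (p + 1).negOnePow = -1 by
      simp [Int.negOnePow_neg, Int.negOnePow_succ]]
    exact (neg_one_smul ℤ _)

variable (a b : ℤ) (hab : DRing.VanishesOutside P a b)
include hab

lemma coevD_vanish (p : ℤ) (hp : -p < a ∨ b < -p) : coevD P hP p = 0 := by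
  have : IsZero (P.X (-p) ⊗ (dualCx P).X p) := (tensorRight ((dualCx P).X p)).map_isZero (hab _ hp)
  have e : coevP P hP p = 0 := this.eq_of_tgt _ _
  simp [coevD, e]

lemma coev₀_d : coev₀ P hP (Finset.Icc (-b) (-a)) ≫ (P ⊗ dualCx P).d 0 1 = 0 := by
  rw [coev₀, Preadditive.sum_comp, Finset.sum_congr rfl fun p _ => coev_d P hP p]
  rcases le_or_gt (-b) (-a) with h | h
  swap
  · simp [h]
  have key : ∀ c : ℤ, -b ≤ c → ∑ p ∈ Finset.Icc (-b) c, (coevD P hP (p - 1) - coevD P hP p) =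
      coevD P hP (-b - 1) - coevD P hP c := by
    intro c hc
    induction c, hc using Int.leInduction with
    | base => simp
    | succ c hc ih =>
      rw [show Finset.Icc (-b) (c + 1) = insert (c + 1) (Finset.Icc (-b) c) from Finset.ext fun x => by simp; omega,
        Finset.sum_insert (by simp), ih]
      simp
  rw [key _ h, coevD_vanish P hP a b hab _ (Or.inr (by omega))]
  have hz : coevD P hP (-a) = 0 := by
    have : IsZero (P.X (-(-a + 1))) := hab _ (Or.inl (by omega))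
    have e : dd P (-a) (-a + 1) = 0 :=
      (congrArg dualMapM (this.eq_of_src (P.d (-(-a + 1)) (- -a)) 0)).trans (dualMapM_zero _ _)
    simp [coevD, e]
  simp [hz]

/-- The coevaluation. -/
noncomputable def coevCx : 𝟙_ (DRing.Cx A) ⟶ P ⊗ dualCx P :=
  mkHomFromSingle (coev₀ P hP (Finset.Icc (-b) (-a))) fun k hk => by
    obtain rfl : k = 1 := by have hk' : (0 : ℤ) + 1 = k := hk; omega
    exact coev₀_d P hP a b hab

lemma coevCx_f_zero : (coevCx P hP a b hab).f 0 =
    (singleObjXSelf (ComplexShape.up ℤ) 0 (𝟙_ (ModuleCat.{u} A))).hom ≫ coev₀ P hP (Finset.Icc (-b) (-a)) :=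
  mkHomFromSingle_f _ _

omit hP hab in
lemma leftUnitor_inv_f (K : DRing.Cx A) (n : ℤ) : (λ_ K).inv.f n = (λ_ (K.X n)).inv ≫
    (singleObjXSelf (ComplexShape.up ℤ) 0 (𝟙_ (ModuleCat.{u} A))).inv ▷ K.X n ≫
      ιTensorObj (𝟙_ (DRing.Cx A)) K 0 n n (zero_add n) :=
  leftUnitor'_inv K n

omit hP hab in
lemma rightUnitor_inv_f (K : DRing.Cx A) (n : ℤ) : (ρ_ K).inv.f n = (ρ_ (K.X n)).inv ≫
    K.X n ◁ (singleObjXSelf (ComplexShape.up ℤ) 0 (𝟙_ (ModuleCat.{u} A))).inv ≫
      ιTensorObj K (𝟙_ (DRing.Cx A)) n 0 n (add_zero n) :=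
  rightUnitor'_inv K n

lemma triangle_left : (λ_ P).inv ≫ coevCx P hP a b hab ▷ P ≫ (α_ P (dualCx P) P).hom ≫ P ◁ evCx P = (ρ_ P).inv := by
  refine HomologicalComplex.hom_ext _ _ fun n => ?_
  by_cases hn : n < a ∨ b < n
  · exact (hab n hn).eq_of_src _ _
  obtain ⟨p, rfl⟩ : ∃ p, n = -p := ⟨-n, (neg_neg n).symm⟩
  simp only [HomologicalComplex.comp_f, leftUnitor_inv_f, rightUnitor_inv_f, Category.assoc]
  rw [reassoc_of% (ι_whiskerRight (coevCx P hP a b hab) P 0 (-p) (-p) (zero_add _)), coevCx_f_zero]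
  rw [← comp_whiskerRight_assoc, Iso.inv_hom_id_assoc]
  have hsum : coev₀ P hP (Finset.Icc (-b) (-a)) ▷ P.X (-p) =
      ∑ r ∈ Finset.Icc (-b) (-a), (coevP P hP r ≫ ιTensorObj P (dualCx P) (-r) r 0 (by simp)) ▷ P.X (-p) :=
    (tensorRight (P.X (-p))).map_sum _ _
  rw [hsum, Preadditive.sum_comp, Preadditive.comp_sum, Finset.sum_eq_single p]
  · simp only [comp_whiskerRight, Category.assoc]
    rw [← Category.assoc (ιTensorObj P (dualCx P) (-p) p 0 _ ▷ _), ← ι₁₂_eq P (dualCx P) P (-p) p (-p) (-p) (by omega) 0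
      (by omega), reassoc_of% (ι₁₂_associator P (dualCx P) P (-p) p (-p) (-p) (by omega)),
      ι₂₃_eq P (dualCx P) P (-p) p (-p) (-p) (by omega) 0 (by omega)]
    simp only [Category.assoc]
    rw [ι_whiskerLeft, ← whiskerLeft_comp_assoc, evCx_f_zero, reassoc_of% (ι_ev₀ P p (-p) (by omega)), evPQ_self',
      whiskerLeft_comp_assoc]
    have := (hP (-p)).1; have := (hP (-p)).2
    have z : (λ_ (P.X (-p))).inv ≫ coevP P hP p ▷ P.X (-p) ≫ (α_ (P.X (-p)) ((dualCx P).X p) (P.X (-p))).hom ≫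
        P.X (-p) ◁ contrP P p = (ρ_ (P.X (-p))).inv := zigzag_left (P.X (-p))
    rw [reassoc_of% z]
  · intro r _ hr
    simp only [comp_whiskerRight, Category.assoc]
    rw [← Category.assoc (ιTensorObj P (dualCx P) (-r) r 0 _ ▷ _), ← ι₁₂_eq P (dualCx P) P (-r) r (-p) (-p) (by omega) 0
      (by omega), reassoc_of% (ι₁₂_associator P (dualCx P) P (-r) r (-p) (-p) (by omega)),
      ι₂₃_eq P (dualCx P) P (-r) r (-p) (-p) (by omega) (r - p) (by omega)]
    simp only [Category.assoc]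
    rw [ι_whiskerLeft, ← whiskerLeft_comp_assoc, evCx_f_ne P (r - p) (by omega)]
    simp
  · intro h
    exact absurd (Finset.mem_Icc.2 ⟨by omega, by omega⟩) h

lemma triangle_right :
    (ρ_ (dualCx P)).inv ≫ dualCx P ◁ coevCx P hP a b hab ≫ (α_ (dualCx P) P (dualCx P)).inv ≫ evCx P ▷ dualCx P =
      (λ_ (dualCx P)).inv := by
  refine HomologicalComplex.hom_ext _ _ fun n => ?_
  by_cases hn : -n < a ∨ b < -n
  · refine IsZero.eq_of_src ?_ _ _
    have : Subsingleton (P.X (-n)) := ModuleCat.subsingleton_of_isZero (hab _ hn)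
    exact ModuleCat.isZero_of_subsingleton (dualM (P.X (-n)))
  simp only [HomologicalComplex.comp_f, leftUnitor_inv_f, rightUnitor_inv_f, Category.assoc]
  rw [reassoc_of% (ι_whiskerLeft (dualCx P) (coevCx P hP a b hab) n 0 n (add_zero _)), coevCx_f_zero]
  rw [← whiskerLeft_comp_assoc, Iso.inv_hom_id_assoc]
  have hsum : (dualCx P).X n ◁ coev₀ P hP (Finset.Icc (-b) (-a)) =
      ∑ r ∈ Finset.Icc (-b) (-a), (dualCx P).X n ◁ (coevP P hP r ≫ ιTensorObj P (dualCx P) (-r) r 0 (by simp)) :=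
    (tensorLeft ((dualCx P).X n)).map_sum _ _
  have hinv : ∀ r : ℤ, ι₂₃ (dualCx P) P (dualCx P) n (-r) r n (by omega) ≫ (α_ (dualCx P) P (dualCx P)).inv.f n =
      (α_ ((dualCx P).X n) (P.X (-r)) ((dualCx P).X r)).inv ≫ ι₁₂ (dualCx P) P (dualCx P) n (-r) r n (by omega) := by
    intro r
    rw [Iso.eq_inv_comp, ← reassoc_of% (ι₁₂_associator (dualCx P) P (dualCx P) n (-r) r n (by omega)),
      ← HomologicalComplex.comp_f, Iso.hom_inv_id, HomologicalComplex.id_f]
    exact Category.comp_id _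
  rw [hsum, Preadditive.sum_comp, Preadditive.comp_sum, Finset.sum_eq_single n]
  · simp only [whiskerLeft_comp, Category.assoc]
    rw [← Category.assoc (_ ◁ ιTensorObj P (dualCx P) (-n) n 0 _), ← ι₂₃_eq (dualCx P) P (dualCx P) n (-n) n n (by omega) 0
      (by omega), reassoc_of% (hinv n), ι₁₂_eq (dualCx P) P (dualCx P) n (-n) n n (by omega) 0 (by omega)]
    simp only [Category.assoc]
    rw [ι_whiskerRight, ← comp_whiskerRight_assoc, evCx_f_zero, reassoc_of% (ι_ev₀ P n (-n) (by omega)), evPQ_self',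
      comp_whiskerRight_assoc]
    have := (hP (-n)).1; have := (hP (-n)).2
    have z : (ρ_ ((dualCx P).X n)).inv ≫ (dualCx P).X n ◁ coevP P hP n ≫
        (α_ ((dualCx P).X n) (P.X (-n)) ((dualCx P).X n)).inv ≫ contrP P n ▷ (dualCx P).X n = (λ_ ((dualCx P).X n)).inv :=
      zigzag_right (P.X (-n))
    rw [reassoc_of% z]
  · intro r _ hr
    simp only [whiskerLeft_comp, Category.assoc]
    rw [← Category.assoc (_ ◁ ιTensorObj P (dualCx P) (-r) r 0 _), ← ι₂₃_eq (dualCx P) P (dualCx P) n (-r) r n (by omega) 0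
      (by omega), reassoc_of% (hinv r), ι₁₂_eq (dualCx P) P (dualCx P) n (-r) r n (by omega) (n - r) (by omega)]
    simp only [Category.assoc]
    rw [ι_whiskerRight, ← comp_whiskerRight_assoc, evCx_f_ne P (n - r) (by omega)]
    simp
  · intro h
    exact absurd (Finset.mem_Icc.2 ⟨by omega, by omega⟩) h

/-- A bounded complex of finite projective modules has a dual. -/
@[instance_reducible]
noncomputable def cxPairing : ExactPairing P (dualCx P) where
  coevaluation' := coevCx P hP a b hab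
  evaluation' := evCx P
  coevaluation_evaluation' := by
    rw [← triangle_right P hP a b hab, Iso.hom_inv_id_assoc]
  evaluation_coevaluation' := by
    rw [← triangle_left P hP a b hab, Iso.hom_inv_id_assoc]

end Groth.Agent.KFlat.Mon
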