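import Groth.Agent.KFlat.Mon.Compare
import Groth.Agent.KFlat.Mon.Closed
import Groth.Agent.KFlat.Mon.Pairing
import Groth.Agent.KFlat.RingFlat
import Mathlib.RingTheory.Flat.Basic

/-!
Perfect objects of `D(A)` are dualizable, and the evaluation maps of `DTen` are those of the monoidal category.
-/

set_option autoImplicit false

universe u

open CategoryTheory CategoryTheory.Limits MonoidalCategory

attribute [local instance] HasDerivedCategory.standard

namespace Groth.Agent.KFlat.Mon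

variable {A : Type u} [CommRing A]

lemma isKFlat_of_perfectCx (P : DRing.Cx A) (a b : ℤ) (hab : DRing.VanishesOutside P a b)
    (hP : DRing.TermwiseFiniteProjective P) : DRing.IsKFlat A P :=
  isKFlat_of_boundedAbove b (fun i hi => hab i (Or.inr hi)) fun i =>
    have := (hP i).2
    inferInstance

lemma isKFlat_dualCx (P : DRing.Cx A) (a b : ℤ) (hab : DRing.VanishesOutside P a b)
    (hP : DRing.TermwiseFiniteProjective P) : DRing.IsKFlat A (dualCx P) :=
  isKFlat_of_boundedAbove (-a) (fun i hi => by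
    have : Subsingleton (P.X (-i)) := ModuleCat.subsingleton_of_isZero (hab _ (Or.inl (by omega)))
    exact ModuleCat.isZero_of_subsingleton (dualM (P.X (-i)))) fun i => by
    have := (hP (-i)).1
    have := (hP (-i)).2
    exact inferInstanceAs (Module.Flat A (Module.Dual A (P.X (-i))))

/-- The exact pairing of K-flat complexes. -/
@[instance_reducible]
noncomputable def kfPairing (X Y : KF A) [ExactPairing X.obj Y.obj] : ExactPairing X Y where
  coevaluation' := ObjectProperty.homMk (η_ X.obj Y.obj)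
  evaluation' := ObjectProperty.homMk (ε_ X.obj Y.obj)
  coevaluation_evaluation' := ObjectProperty.hom_ext _ (ExactPairing.coevaluation_evaluation X.obj Y.obj)
  evaluation_coevaluation' := ObjectProperty.hom_ext _ (ExactPairing.evaluation_coevaluation X.obj Y.obj)

variable [DTen.HasLTen A]

omit [DTen.HasLTen A] in
/-- Perfect objects have duals. -/
theorem exists_pairing_of_isPerfect {K : Dual.D A} (hK : DRing.IsPerfect A K) :
    ∃ N : DM A, Nonempty (ExactPairing (dm K) N) := by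
  obtain ⟨E, a, b, hab, hE, ⟨e⟩⟩ := hK
  let : ExactPairing E (dualCx E) := cxPairing E hE a b hab
  let X : KF A := ⟨E, isKFlat_of_perfectCx E a b hab hE⟩
  let Y : KF A := ⟨dualCx E, isKFlat_dualCx E a b hab hE⟩
  let : ExactPairing X Y := kfPairing X Y
  let : ExactPairing ((L' A).obj X) ((L' A).obj Y) := mapPairing (L' A) X Y
  have i : dm K ≅ (L' A).obj X := e.symm
  exact ⟨(L' A).obj Y, ⟨exactPairingCongrLeft (X' := (L' A).obj X) i⟩⟩

section Maps

variable [DTen.HasRHom A]

/-- `RHom(M, -)` on the monoidal category. -/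
noncomputable def GM (M : Dual.D A) : DM A ⥤ DM A := DTen.RHomR A M

/-- `- ⊗ M` is the derived tensor product by `M`. -/
noncomputable def tensorRightIso (M : Dual.D A) :
    (show DM A ⥤ DM A from DTen.tensorRightD A M) ≅ tensorRight (dm M) :=
  NatIso.ofComponents (fun X => θi X M) fun f => NatTrans.naturality_app (θ A).hom M f

/-- The adjunction in the monoidal category. -/
noncomputable def adjM (M : Dual.D A) : tensorRight (dm M) ⊣ GM M :=
  (show (show DM A ⥤ DM A from DTen.tensorRightD A M) ⊣ GM M from DTen.rhomAdj A M).ofNatIsoLeft (tensorRightIso M)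

/-- `DTen.ev` in the monoidal category. -/
noncomputable def evd (M X : Dual.D A) : dm ((DTen.LTen₂ A).obj ((DTen.RHomR A M).obj X, M)) ⟶ dm X := DTen.ev M X

/-- `θi` at an internal hom, in the first variable. -/
noncomputable def θG₁ (M X : Dual.D A) :
    dm ((DTen.LTen₂ A).obj ((DTen.RHomR A M).obj X, M)) ≅ (GM M).obj (dm X) ⊗ dm M :=
  θi _ _

/-- `θi` at an internal hom, in the second variable. -/
noncomputable def θG₂ (K M X : Dual.D A) :
    dm ((DTen.LTen₂ A).obj (K, (DTen.RHomR A M).obj X)) ≅ dm K ⊗ (GM M).obj (dm X) :=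
  θi _ _

/-- The adjunct, in the monoidal category. -/
noncomputable def rhomd (K M X : Dual.D A) (g : dm ((DTen.LTen₂ A).obj (K, M)) ⟶ dm X) :
    dm K ⟶ (GM M).obj (dm X) :=
  DTen.rhomHomEquiv K M X g

lemma cu_adjM (M X : Dual.D A) : cu (adjM M) (dm X) = (θG₁ M X).inv ≫ evd M X := by
  simp [cu, adjM, tensorRightIso, Adjunction.ofNatIsoLeft]
  rfl

lemma θG₁_cu (M X : Dual.D A) : (θG₁ M X).hom ≫ cu (adjM M) (dm X) = evd M X := by
  rw [cu_adjM, Iso.hom_inv_id_assoc]

lemma rhomd_ev (K M X : Dual.D A) (g : dm ((DTen.LTen₂ A).obj (K, M)) ⟶ dm X) :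
    ltm (a' := (DTen.RHomR A M).obj X) (rhomd K M X g) (𝟙 (dm M)) ≫ evd M X = g :=
  ((DTen.rhomAdj A M).homEquiv_counit K X _).symm.trans ((DTen.rhomHomEquiv K M X).left_inv g)

lemma θG₁_natural {a : Dual.D A} (M X : Dual.D A) (f : dm a ⟶ (GM M).obj (dm X)) :
    ltm (a' := (DTen.RHomR A M).obj X) f (𝟙 (dm M)) ≫ (θG₁ M X).hom = (θi a M).hom ≫ f ▷ dm M := by
  rw [← tensorHom_id]
  exact θi_natural (a' := (DTen.RHomR A M).obj X) f (𝟙 (dm M))

lemma rhomd_eq (K M X : Dual.D A) (g : dm ((DTen.LTen₂ A).obj (K, M)) ⟶ dm X) :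
    rhomd K M X g = (adjM M).homEquiv (dm K) (dm X) ((θi K M).inv ≫ g) := by
  refine ((adjM M).homEquiv _ _).symm.injective ?_
  rw [Equiv.symm_apply_apply, homEquiv_symm_cu, ← cancel_epi (θi K M).hom, ← reassoc_of% θG₁_natural,
    θG₁_cu, rhomd_ev, Iso.hom_inv_id_assoc]

variable [DTen.HasLTen₃ A] [DTen.IsSymMonoidal A]

/-- `DTen.associator` in the monoidal category. -/
noncomputable def assocd (a b c : Dual.D A) : dm ((DTen.LTen₂ A).obj ((DTen.LTen₂ A).obj (a, b), c)) ≅
    dm ((DTen.LTen₂ A).obj (a, (DTen.LTen₂ A).obj (b, c))) where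
  hom := (DTen.associator a b c).hom
  inv := (DTen.associator a b c).inv
  hom_inv_id := (DTen.associator a b c).hom_inv_id
  inv_hom_id := (DTen.associator a b c).inv_hom_id

omit [DTen.HasRHom A] in
lemma assocd_compat (a b c : Dual.D A) :
    (assocd a b c).hom ≫ (compR a b c).hom = (compL a b c).hom ≫ (α_ (dm a) (dm b) (dm c)).hom :=
  assoc_compat a b c

lemma assocd_θ₁ (K M L : Dual.D A) :
    (assocd K ((DTen.RHomR A M).obj L) M).hom ≫ (θi K _).hom ≫ dm K ◁ (θG₁ M L).hom =
      (θi _ M).hom ≫ (θG₂ K M L).hom ▷ dm M ≫ (α_ (dm K) ((GM M).obj (dm L)) (dm M)).hom := by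
  have h := assocd_compat K ((DTen.RHomR A M).obj L) M
  simp only [compL, compR, Iso.trans_hom, whiskerRightIso_hom, whiskerLeftIso_hom, Category.assoc] at h
  exact h

omit [DTen.HasRHom A] [DTen.HasLTen₃ A] [DTen.IsSymMonoidal A] in
lemma θi_natural_right {b b' : Dual.D A} (K : Dual.D A) (g : dm b ⟶ dm b') :
    ltm (𝟙 (dm K)) g ≫ (θi K b').hom = (θi K b).hom ≫ dm K ◁ g := by
  rw [← id_tensorHom]
  exact θi_natural (𝟙 (dm K)) g

lemma evalTenAux_eq (K L M : Dual.D A) :
    (θi ((DTen.LTen₂ A).obj (K, (DTen.RHomR A M).obj L)) M).hom ≫ (θG₂ K M L).hom ▷ dm M ≫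
        (α_ (dm K) ((GM M).obj (dm L)) (dm M)).hom ≫ dm K ◁ cu (adjM M) (dm L) ≫ (θi K L).inv =
      (assocd K ((DTen.RHomR A M).obj L) M).hom ≫ ltm (𝟙 (dm K)) (evd M L) := by
  rw [← reassoc_of% assocd_θ₁, ← whiskerLeft_comp_assoc, θG₁_cu, ← reassoc_of% θi_natural_right, Iso.hom_inv_id,
    Category.comp_id]

lemma evalTen_eq (K L M : Dual.D A) :
    rhomd _ M _ ((assocd K ((DTen.RHomR A M).obj L) M).hom ≫ ltm (𝟙 (dm K)) (evd M L)) =
      (θG₂ K M L).hom ≫ evalT (adjM M) (dm K) (dm L) ≫ (GM M).map (θi K L).inv := by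
  rw [rhomd_eq, evalT, ← Adjunction.homEquiv_naturality_right, ← Adjunction.homEquiv_naturality_left]
  refine congrArg _ ?_
  rw [← evalTenAux_eq, Iso.inv_hom_id_assoc]
  exact congrArg (fun t => _ ≫ t) (Category.assoc _ _ _).symm

lemma isIso_evalTen_iff (K L M : Dual.D A) :
    IsIso (DTen.evalTen K L M) ↔ IsIso (evalT (adjM M) (dm K) (dm L)) := by
  have h := evalTen_eq K L M
  let e : dm ((DTen.LTen₂ A).obj (K, (DTen.RHomR A M).obj L)) ⟶ (GM M).obj (dm ((DTen.LTen₂ A).obj (K, L))) :=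
    rhomd _ M _ ((assocd K ((DTen.RHomR A M).obj L) M).hom ≫ ltm (𝟙 (dm K)) (evd M L))
  have he : IsIso (DTen.evalTen K L M) ↔ IsIso e := Iff.rfl
  rw [he, show e = _ from h]
  constructor
  · intro hi
    have := IsIso.of_isIso_comp_left (θG₂ K M L).hom (evalT (adjM M) (dm K) (dm L) ≫ (GM M).map (θi K L).inv)
    exact IsIso.of_isIso_comp_right (evalT (adjM M) (dm K) (dm L)) ((GM M).map (θi K L).inv)
  · intro hi
    infer_instance

theorem isIso_evalTen_left {K : Dual.D A} (L M : Dual.D A) (hK : DRing.IsPerfect A K) :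
    IsIso (DTen.evalTen K L M) := by
  obtain ⟨N, ⟨p⟩⟩ := exists_pairing_of_isPerfect hK
  exact (isIso_evalTen_iff K L M).2 (isIso_evalT_left (adjM M) (dm K) N (dm L))

theorem isIso_evalTen_right (K L : Dual.D A) {M : Dual.D A} (hM : DRing.IsPerfect A M) :
    IsIso (DTen.evalTen K L M) := by
  obtain ⟨N, ⟨p⟩⟩ := exists_pairing_of_isPerfect hM
  exact (isIso_evalTen_iff K L M).2 (isIso_evalT_right (adjM M) (dm K) (dm L) N)

end Maps

end Groth.Agent.KFlat.Mon
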