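import Groth.Agent.KFlat.Mon.RelDual
import Groth.Agent.KFlat.Mon.Closed

/-!
Base change of internal homs when the projection formula holds: the abstract identity
`projUnit ≫ G b ≫ r = evalT ≫ GK projUnit`.
-/

set_option autoImplicit false

universe v v' u u'

open CategoryTheory MonoidalCategory Functor.LaxMonoidal Functor.OplaxMonoidal

namespace Groth.Agent.KFlat.Mon

variable {C : Type u} [Category.{v} C] [MonoidalCategory C] {D : Type u'} [Category.{v'} D] [MonoidalCategory D]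
  {F : C ⥤ D} [F.Monoidal] {G : D ⥤ C} [G.LaxMonoidal] (adj : F ⊣ G) [adj.IsMonoidal]

theorem projUnit_bc {K M : C} {GK : C ⥤ C} (adjK : tensorRight K ⊣ GK) {GK' : D ⥤ D}
    (adjK' : tensorRight (F.obj K) ⊣ GK') (b : F.obj (GK.obj M) ⟶ GK'.obj (F.obj M))
    (hb : b ▷ F.obj K ≫ cu adjK' (F.obj M) = μ F (GK.obj M) K ≫ F.map (cu adjK M))
    (r : G.obj (GK'.obj (F.obj M)) ⟶ GK.obj (G.obj (F.obj M)))
    (hr : r ▷ K ≫ cu adjK (G.obj (F.obj M)) = projM adj (GK'.obj (F.obj M)) K ≫ G.map (cu adjK' (F.obj M))) :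
    projUnit adj (GK.obj M) ≫ G.map b ≫ r = evalT adjK (G.obj (𝟙_ D)) M ≫ GK.map (projUnit adj M) := by
  refine (adjK.homEquiv _ _).symm.injective ?_
  simp only [evalT, ← Adjunction.homEquiv_naturality_right, Equiv.symm_apply_apply]
  rw [homEquiv_symm_cu, comp_whiskerRight, comp_whiskerRight, Category.assoc, Category.assoc, hr,
    reassoc_of% projM_natural_left, ← Functor.map_comp, hb, Functor.map_comp]
  have h : projUnit adj (GK.obj M) ▷ K ≫ projM adj (F.obj (GK.obj M)) K =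
      (α_ (G.obj (𝟙_ D)) (GK.obj M) K).hom ≫ projUnit adj (GK.obj M ⊗ K) ≫ G.map (δ F (GK.obj M) K) := by
    rw [← projUnit_tensor, Iso.hom_inv_id_assoc]
  rw [reassoc_of% h, ← Functor.map_comp_assoc, Functor.Monoidal.δ_μ, CategoryTheory.Functor.map_id, Category.id_comp,
    ← projUnit_natural]
  simp only [Category.assoc]

/-- Hence the base change map is invertible when the evaluation map is. -/
theorem isIso_bc_of_isIso_evalT [G.ReflectsIsomorphisms] {K M : C} [∀ (E : D) (Y : C), IsIso (projM adj E Y)]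
    {GK : C ⥤ C} (adjK : tensorRight K ⊣ GK) {GK' : D ⥤ D}
    (adjK' : tensorRight (F.obj K) ⊣ GK') (b : F.obj (GK.obj M) ⟶ GK'.obj (F.obj M))
    (hb : b ▷ F.obj K ≫ cu adjK' (F.obj M) = μ F (GK.obj M) K ≫ F.map (cu adjK M))
    (r : G.obj (GK'.obj (F.obj M)) ⟶ GK.obj (G.obj (F.obj M))) [IsIso r]
    (hr : r ▷ K ≫ cu adjK (G.obj (F.obj M)) = projM adj (GK'.obj (F.obj M)) K ≫ G.map (cu adjK' (F.obj M)))
    [IsIso (evalT adjK (G.obj (𝟙_ D)) M)] : IsIso b := by
  have hp : ∀ Y, IsIso (projUnit adj Y) := fun Y => by unfold projUnit; infer_instance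
  have hp1 := hp (GK.obj M)
  have hp2 := hp M
  have h : IsIso (projUnit adj (GK.obj M) ≫ G.map b ≫ r) := by
    rw [projUnit_bc adj adjK adjK' b hb r hr]; infer_instance
  have h1 : IsIso (G.map b ≫ r) := IsIso.of_isIso_comp_left (projUnit adj (GK.obj M)) _
  have h2 : IsIso (G.map b) := IsIso.of_isIso_comp_right (G.map b) r
  exact isIso_of_reflects_iso b G

end Groth.Agent.KFlat.Mon
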