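import Groth.Agent.KFlat.Mon.BCMonoidal
import Groth.Agent.KFlat.Mon.Perfect
import Groth.Agent.KFlat.Mon.ProjBC

/-!
`bcRHom` is an isomorphism when the evaluation map at `R'` is.
-/

set_option autoImplicit false

universe u

open CategoryTheory CategoryTheory.Limits MonoidalCategory HomologicalComplex

attribute [local instance] HasDerivedCategory.standard

namespace Groth.Agent.KFlat.Mon

variable {R R' : Type u} [CommRing R] [CommRing R'] (φ : R →+* R') [DTen.HasLBase φ]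
  [DTen.HasLTen R] [DTen.HasLTen R'] [DTen.HasResTen φ] [DTen.ResLegIso φ]

/-- `θi` pushed forward by base change. -/
noncomputable def Bθ (a b : Dual.D R) :
    dm ((DTen.LBase φ).obj ((DTen.LTen₂ R).obj (a, b))) ≅ (LB φ).obj (dm a ⊗ dm b) := (LB φ).mapIso (θi a b)

/-- `θi` after base change. -/
noncomputable def θB (a b : Dual.D R) :
    dm ((DTen.LTen₂ R').obj ((DTen.LBase φ).obj a, (DTen.LBase φ).obj b)) ≅
      (LB φ).obj (dm a) ⊗ (LB φ).obj (dm b) := θi _ _

/-- The two monoidal structures of derived base change agree. -/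
lemma βd_δ (a b : Dual.D R) :
    (βd φ a b).hom ≫ (θB φ a b).hom = (Bθ φ a b).hom ≫ Functor.OplaxMonoidal.δ (LB φ) (dm a) (dm b) := by
  obtain ⟨X, ⟨iX⟩⟩ := exists_KF a
  obtain ⟨Y, ⟨iY⟩⟩ := exists_KF b
  let iX' : dm ((L R).obj X) ≅ dm a := iX
  let iY' : dm ((L R).obj Y) ≅ dm b := iY
  have key : (βd φ _ _).hom ≫ (θB φ ((L R).obj X) ((L R).obj Y)).hom =
      (Bθ φ _ _).hom ≫ Functor.OplaxMonoidal.δ (LB φ) (dm ((L R).obj X)) (dm ((L R).obj Y)) := by
    rw [← cancel_mono (((blD φ X).hom ⊗ₘ (blD φ Y).hom) ≫ (μd ((extKF φ).obj X) ((extKF φ).obj Y)).hom)]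
    have hn : (θB φ ((L R).obj X) ((L R).obj Y)).hom ≫ ((blD φ X).hom ⊗ₘ (blD φ Y).hom) =
        ltm (bl φ X).hom (bl φ Y).hom ≫ (θi _ _).hom :=
      (θi_natural (bl φ X).hom (bl φ Y).hom).symm
    simp only [Category.assoc]
    rw [ra hn, Category.assoc, θi_app, βd_bl]
    have hd' : Functor.OplaxMonoidal.δ (LB φ) (dm ((L R).obj X)) (dm ((L R).obj Y)) ≫
        ((blD φ X).hom ⊗ₘ (blD φ Y).hom) ≫ (μd ((extKF φ).obj X) ((extKF φ).obj Y)).hom =
      (LB φ).map (μd X Y).hom ≫ (blD φ (X ⊗ Y)).hom ≫ Lm (Functor.OplaxMonoidal.δ (extKF φ) X Y) := by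
      have h0 := congrArg (fun t => (LB φ).map (μd X Y).hom ≫ t ≫ (μd ((extKF φ).obj X) ((extKF φ).obj Y)).hom)
        (δ_LB φ X Y)
      simpa only [Category.assoc, Iso.map_hom_inv_id_assoc, Iso.inv_hom_id, Category.comp_id] using h0
    rw [hd']
    have he : (Bθ φ ((L R).obj X) ((L R).obj Y)).hom ≫ (LB φ).map (μd X Y).hom = Bm φ (εd X Y) :=
      ((LB φ).map_comp _ _).symm.trans (congrArg (LB φ).map (θi_app X Y))
    rw [← Category.assoc (Bθ φ _ _).hom, he]
    rfl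
  have e1 : Bm φ (ltm iX'.hom iY'.hom) ≫ (βd φ a b).hom =
      (βd φ _ _).hom ≫ ltm (Bm φ iX'.hom) (Bm φ iY'.hom) := βd_natural φ _ _
  have e2 : ltm (Bm φ iX'.hom) (Bm φ iY'.hom) ≫ (θB φ a b).hom =
      (θB φ _ _).hom ≫ ((LB φ).map iX'.hom ⊗ₘ (LB φ).map iY'.hom) := θi_natural _ _
  have e3 : Bm φ (ltm iX'.hom iY'.hom) ≫ (Bθ φ a b).hom = (Bθ φ _ _).hom ≫ (LB φ).map (iX'.hom ⊗ₘ iY'.hom) :=
    ((LB φ).map_comp _ _).symm.trans ((congrArg (LB φ).map (θi_natural _ _)).trans ((LB φ).map_comp _ _))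
  have : IsIso (Bm φ (ltm iX'.hom iY'.hom)) := by
    have : IsIso ((DTen.LTen₂ R).map (X := ((L R).obj X, (L R).obj Y)) (Y := (a, b)) (Prod.mkHom iX.hom iY.hom)) :=
      Functor.map_isIso _ (Iso.prod iX iY).hom
    exact Functor.map_isIso (DTen.LBase φ) ((DTen.LTen₂ R).map (X := ((L R).obj X, (L R).obj Y)) (Y := (a, b))
      (Prod.mkHom iX.hom iY.hom))
  rw [← cancel_epi (Bm φ (ltm iX'.hom iY'.hom)), ra e1, Category.assoc, e2, ra key, Category.assoc,
    Functor.OplaxMonoidal.δ_natural, ra e3, Category.assoc]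

/-- `DTen.resPF`, in the monoidal categories. -/
noncomputable def resPFd (E E' : Dual.D R') :
    dm ((DTen.LTen₂ R).obj ((DRing.restrictD φ).obj E, (DRing.restrictD φ).obj E')) ⟶
      dm ((DRing.restrictD φ).obj ((DTen.LTen₂ R').obj (E, E'))) := (DTen.resPF φ).app (E, E')

/-- `θi` at restricted objects. -/
noncomputable def θR (E E' : Dual.D R') :
    dm ((DTen.LTen₂ R).obj ((DRing.restrictD φ).obj E, (DRing.restrictD φ).obj E')) ≅
      (Res φ).obj (dm E) ⊗ (Res φ).obj (dm E') := θi _ _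

/-- Restriction of `θi`. -/
noncomputable def Rθ (E E' : Dual.D R') :
    dm ((DRing.restrictD φ).obj ((DTen.LTen₂ R').obj (E, E'))) ≅ (Res φ).obj (dm E ⊗ dm E') := (Res φ).mapIso (θi E E')

lemma resPFd_eq (E E' : Dual.D R') :
    resPFd φ E E' ≫ (Rθ φ E E').hom = (θR φ E E').hom ≫ Functor.LaxMonoidal.μ (Res φ) (dm E) (dm E') := by
  refine ((adjD φ).homEquiv _ _).symm.injective ?_
  let a := (DRing.restrictD φ).obj E
  let b := (DRing.restrictD φ).obj E'
  let cE : dm ((DTen.LBase φ).obj a) ⟶ dm E := (DTen.baseAdj φ).counit.app E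
  let cE' : dm ((DTen.LBase φ).obj b) ⟶ dm E' := (DTen.baseAdj φ).counit.app E'
  have hsymm : ((adjD φ).homEquiv (dm ((DTen.LTen₂ R).obj (a, b))) (dm ((DTen.LTen₂ R').obj (E, E')))).symm
      (resPFd φ E E') = (βd φ a b).hom ≫ ltm cE cE' := by
    refine ((DTen.baseAdj φ).homEquiv _ _).injective ?_
    refine (Equiv.apply_symm_apply ((DTen.baseAdj φ).homEquiv _ _) _).trans ?_
    refine Eq.trans ?_ (((DTen.baseAdj φ).homEquiv_naturality_right _ _).trans
      (congrArg (fun t => t ≫ _) (Equiv.apply_symm_apply _ _))).symm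
    dsimp [BaseTen.c]
    have e := (DTen.resPF φ).naturality (Prod.mkHom ((DTen.baseAdj φ).counit.app E) ((DTen.baseAdj φ).counit.app E'))
    dsimp at e
    refine Eq.trans ?_ (Category.assoc _ _ _).symm
    refine Eq.trans ?_ (congrArg (fun t => _ ≫ t) e)
    refine Eq.trans ?_ (Category.assoc _ _ _)
    have hpq : Prod.mkHom ((DTen.baseAdj φ).unit.app a) ((DTen.baseAdj φ).unit.app b) ≫
        Prod.mkHom ((DRing.restrictD φ).map ((DTen.baseAdj φ).counit.app E))
          ((DRing.restrictD φ).map ((DTen.baseAdj φ).counit.app E')) = 𝟙 (a, b) :=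
      Prod.ext ((DTen.baseAdj φ).right_triangle_components E) ((DTen.baseAdj φ).right_triangle_components E')
    refine (Category.id_comp _).symm.trans (congrArg (fun t => t ≫ (DTen.resPF φ).app (E, E')) ?_)
    exact ((((DTen.LTen₂ R).map_comp _ _).symm.trans ((DTen.LTen₂ R).congr_map hpq)).trans
      ((DTen.LTen₂ R).map_id _)).symm
  have h2 : (LB φ).map (θR φ E E').hom = (Bθ φ a b).hom := rfl
  have h3 : ltm cE cE' ≫ (θi E E').hom = (θB φ a b).hom ≫ (cn (adjD φ) (dm E) ⊗ₘ cn (adjD φ) (dm E')) :=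
    θi_natural cE cE'
  have e1 : ((adjD φ).homEquiv _ _).symm (resPFd φ E E' ≫ (Rθ φ E E').hom) =
      ((adjD φ).homEquiv _ _).symm (resPFd φ E E') ≫ (θi E E').hom :=
    (adjD φ).homEquiv_naturality_right_symm (Y := dm ((DTen.LTen₂ R').obj (E, E'))) (resPFd φ E E') (θi E E').hom
  refine e1.trans ((congrArg (fun t => t ≫ (θi E E').hom) hsymm).trans ?_)
  refine (Category.assoc _ _ _).trans ((congrArg (fun t => _ ≫ t) h3).trans ((ra (βd_δ φ a b) _).trans
    ((Category.assoc _ _ _).trans ?_)))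
  refine Eq.trans ?_ (homEquiv_symm_cn (adjD φ) _).symm
  exact Eq.symm (((congrArg (fun t => t ≫ _) ((LB φ).map_comp _ _)).trans (Category.assoc _ _ _)).trans
    ((congrArg (fun t => _ ≫ t) (map_μ_cn (adjD φ) (dm E) (dm E'))).trans
      (congrArg (fun t => t ≫ _) h2)))

variable [DTen.HasRHom R] [DTen.HasRHom R']

theorem isIso_bcRHom_of_isIso_evalT (K M : Dual.D R) [IsIso (DTen.rhomBC φ K ((DTen.LBase φ).obj M))]
    (hev : IsIso (evalT (adjM K) ((Res φ).obj (𝟙_ (DM R'))) (dm M))) : IsIso (DTen.bcRHom φ K M) := by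
  have : ∀ (E : DM R') (Y : DM R), IsIso (projM (adjD φ) E Y) := isIso_projM φ
  let K' := (DTen.LBase φ).obj K
  let N := (DTen.LBase φ).obj M
  let adjK' : tensorRight ((LB φ).obj (dm K)) ⊣ GM K' := adjM K'
  let b : (LB φ).obj ((GM K).obj (dm M)) ⟶ (GM K').obj ((LB φ).obj (dm M)) := bcd φ K M
  have hb : b ▷ (LB φ).obj (dm K) ≫ cu adjK' ((LB φ).obj (dm M)) =
      Functor.LaxMonoidal.μ (LB φ) ((GM K).obj (dm M)) (dm K) ≫ (LB φ).map (cu (adjM K) (dm M)) := by
    refine ((adjM K').homEquiv_counit _ _ _).symm.trans ?_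
    rw [show b = _ from bcd_eq φ K M]
    refine (Equiv.symm_apply_apply _ _).trans ?_
    let a := (DTen.RHomR R K).obj M
    have hθ : (θB φ a K).inv ≫ (βd φ a K).inv = Functor.LaxMonoidal.μ (LB φ) (dm a) (dm K) ≫ (Bθ φ a K).inv := by
      refine (cancel_mono (βd φ a K).hom).1 ?_
      rw [Category.assoc, Iso.inv_hom_id, Category.comp_id, ← cancel_mono (θB φ a K).hom, Iso.inv_hom_id]
      simp only [Category.assoc, βd_δ, Iso.inv_hom_id_assoc, Functor.Monoidal.μ_δ]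
    have hev' : (Bθ φ a K).inv ≫ Bm φ (evd K M) = (LB φ).map (cu (adjM K) (dm M)) := by
      rw [cu_adjM]
      exact ((LB φ).map_comp _ _).symm
    exact (Category.assoc _ _ _).symm.trans ((congrArg (fun t => t ≫ Bm φ (evd K M)) hθ).trans
      ((Category.assoc _ _ _).trans (congrArg (fun t => Functor.LaxMonoidal.μ (LB φ) (dm a) (dm K) ≫ t) hev')))
  let r : (Res φ).obj ((GM K').obj ((LB φ).obj (dm M))) ⟶ (GM K).obj ((Res φ).obj ((LB φ).obj (dm M))) :=
    DTen.rhomBC φ K N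
  have : IsIso r := inferInstanceAs (IsIso (DTen.rhomBC φ K N))
  have hr : r ▷ dm K ≫ cu (adjM K) ((Res φ).obj ((LB φ).obj (dm M))) =
      projM (adjD φ) ((GM K').obj ((LB φ).obj (dm M))) (dm K) ≫ (Res φ).map (cu adjK' ((LB φ).obj (dm M))) := by
    let E := (DTen.RHomR R' K').obj N
    let u : dm K ⟶ dm ((DRing.restrictD φ).obj K') := (DTen.baseAdj φ).unit.app K
    let ev' : dm ((DRing.restrictD φ).obj ((DTen.LTen₂ R').obj (E, K'))) ⟶ dm ((DRing.restrictD φ).obj N) :=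
      (DRing.restrictD φ).map (DTen.ev K' N)
    let θK : dm ((DTen.LTen₂ R).obj ((DRing.restrictD φ).obj E, K)) ≅ (Res φ).obj (dm E) ⊗ dm K := θi _ _
    let core : dm ((DTen.LTen₂ R).obj ((DRing.restrictD φ).obj E, K)) ⟶ dm ((DRing.restrictD φ).obj N) :=
      DTen.rhomBCCore φ K N
    have hr' : r = (adjM K).homEquiv _ _ (θK.inv ≫ core) :=
      rhomd_eq ((DRing.restrictD φ).obj E) K _ core
    have hcore : core = ltm (𝟙 (dm ((DRing.restrictD φ).obj E))) u ≫ resPFd φ E K' ≫ ev' := rfl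
    rw [hr']
    refine ((adjM K).homEquiv_counit _ _ _).symm.trans ((Equiv.symm_apply_apply _ _).trans ?_)
    have hp : ltm (𝟙 (dm ((DRing.restrictD φ).obj E))) u ≫ resPFd φ E K' =
        θK.hom ≫ projM (adjD φ) (dm E) (dm K) ≫ (Rθ φ E K').inv := by
      rw [(Iso.eq_comp_inv _).2 (resPFd_eq φ E K'), Category.assoc]
      have hn : ltm (𝟙 (dm ((DRing.restrictD φ).obj E))) u ≫ (θR φ E K').hom =
          θK.hom ≫ (Res φ).obj (dm E) ◁ un (adjD φ) (dm K) := θi_natural_right ((DRing.restrictD φ).obj E) u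
      exact (ra hn _).trans ((Category.assoc _ _ _).trans
        (congrArg (fun t => θK.hom ≫ t) (Category.assoc _ _ _).symm))
    have hev' : (Rθ φ E K').inv ≫ ev' = (Res φ).map (cu adjK' ((LB φ).obj (dm M))) := by
      refine ((Res φ).map_comp _ _).symm.trans ?_
      exact congrArg (Res φ).map (cu_adjM K' N).symm
    rw [hcore, ra hp, Category.assoc, Category.assoc, Iso.inv_hom_id_assoc]
    exact congrArg (fun t => projM (adjD φ) (dm E) (dm K) ≫ t) hev'
  exact isIso_bc_of_isIso_evalT (adjD φ) (adjM K) adjK' b hb r hr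

end Groth.Agent.KFlat.Mon
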