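import Groth.Agent.KFlat.Mon.Perfect

/-!
`RHom(L, M) ⊗ K ⟶ RHom(RHom(K, L), M)` for perfect `K`.
-/

set_option autoImplicit false

universe u

open CategoryTheory CategoryTheory.Limits MonoidalCategory

attribute [local instance] HasDerivedCategory.standard

namespace Groth.Agent.KFlat.Mon

variable {A : Type u} [CommRing A] [DTen.HasLTen A] [DTen.HasRHom A]

/-- The evaluation at `K`, on the monoidal product. -/
noncomputable def evc (K L : Dual.D A) : dm ((DTen.RHomR A K).obj L) ⊗ dm K ⟶ dm L :=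
  (θi ((DTen.RHomR A K).obj L) K).inv ≫ evd K L

variable [DTen.HasLTen₃ A] [DTen.IsSymMonoidal A]

/-- `DTen.symm` in the monoidal category. -/
noncomputable def symd (a b : Dual.D A) : dm ((DTen.LTen₂ A).obj (b, a)) ⟶ dm ((DTen.LTen₂ A).obj (a, b)) :=
  (DTen.symm A).app (a, b)

omit [DTen.HasRHom A] [DTen.HasLTen₃ A] [DTen.IsSymMonoidal A] in
lemma symd_compat (a b : Dual.D A) : symd a b ≫ (θi a b).hom = (θi b a).hom ≫ (β_ (dm b) (dm a)).hom :=
  symm_compat a b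

/-- `θi` at an internal hom, for the outer variable of `evalHom`. -/
noncomputable def θG₁' (L M K : Dual.D A) :
    dm ((DTen.LTen₂ A).obj ((DTen.RHomR A L).obj M, K)) ≅ (GM L).obj (dm M) ⊗ dm K :=
  θi _ _

lemma evalHomAux_eq (K L M : Dual.D A) :
    (θi ((DTen.LTen₂ A).obj ((DTen.RHomR A L).obj M, K)) ((DTen.RHomR A K).obj L)).hom ≫
        (θG₁' L M K).hom ▷ dm ((DTen.RHomR A K).obj L) ≫ (α_ _ _ _).hom ≫
          (GM L).obj (dm M) ◁ ((β_ (dm K) (dm ((DTen.RHomR A K).obj L))).hom ≫ evc K L) ≫ cu (adjM L) (dm M) =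
      (assocd ((DTen.RHomR A L).obj M) K ((DTen.RHomR A K).obj L)).hom ≫
        ltm (𝟙 (dm ((DTen.RHomR A L).obj M))) (symd ((DTen.RHomR A K).obj L) K ≫ evd K L) ≫ evd L M := by
  have h0 := assocd_compat ((DTen.RHomR A L).obj M) K ((DTen.RHomR A K).obj L)
  simp only [compL, compR, Iso.trans_hom, whiskerRightIso_hom, whiskerLeftIso_hom, Category.assoc] at h0
  have h : (assocd ((DTen.RHomR A L).obj M) K ((DTen.RHomR A K).obj L)).hom ≫
      (θG₁' L M ((DTen.LTen₂ A).obj (K, (DTen.RHomR A K).obj L))).hom ≫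
        (GM L).obj (dm M) ◁ (θi K ((DTen.RHomR A K).obj L)).hom =
      (θi ((DTen.LTen₂ A).obj ((DTen.RHomR A L).obj M, K)) ((DTen.RHomR A K).obj L)).hom ≫
        (θG₁' L M K).hom ▷ dm ((DTen.RHomR A K).obj L) ≫ (α_ _ _ _).hom := h0
  have hs : (θi K ((DTen.RHomR A K).obj L)).hom ≫ (β_ (dm K) (dm ((DTen.RHomR A K).obj L))).hom ≫ evc K L =
      symd ((DTen.RHomR A K).obj L) K ≫ evd K L := by
    rw [evc, ← reassoc_of% symd_compat, Iso.hom_inv_id_assoc]
  have n : ltm (𝟙 (dm ((DTen.RHomR A L).obj M))) (symd ((DTen.RHomR A K).obj L) K ≫ evd K L) ≫ (θG₁ L M).hom =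
      (θG₁' L M ((DTen.LTen₂ A).obj (K, (DTen.RHomR A K).obj L))).hom ≫
        (GM L).obj (dm M) ◁ (symd ((DTen.RHomR A K).obj L) K ≫ evd K L) :=
    θi_natural_right _ _
  rw [← θG₁_cu L M, reassoc_of% n, ← hs, whiskerLeft_comp_assoc (W := (GM L).obj (dm M)), ← reassoc_of% h]
  simp only [MonoidalCategory.whiskerLeft_comp, Category.assoc]

lemma evalHom_eq (K L M : Dual.D A) :
    rhomd _ ((DTen.RHomR A K).obj L) M ((assocd ((DTen.RHomR A L).obj M) K ((DTen.RHomR A K).obj L)).hom ≫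
        ltm (𝟙 (dm ((DTen.RHomR A L).obj M))) (symd ((DTen.RHomR A K).obj L) K ≫ evd K L) ≫ evd L M) =
      (θG₁' L M K).hom ≫ evalH (adjM L) (adjM ((DTen.RHomR A K).obj L)) (evc K L) (dm M) := by
  rw [rhomd_eq, evalH, ← Adjunction.homEquiv_naturality_left]
  refine congrArg _ ?_
  rw [← evalHomAux_eq, Iso.inv_hom_id_assoc]
  rfl

theorem isIso_evalHom {K : Dual.D A} (L M : Dual.D A) (hK : DRing.IsPerfect A K) :
    IsIso (DTen.evalHom K L M) := by
  obtain ⟨N, ⟨p⟩⟩ := exists_pairing_of_isPerfect hK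
  let e := (tensorRightAdjunction (dm K) N).rightAdjointUniq (adjM K)
  let w : dm L ⊗ N ≅ dm ((DTen.RHomR A K).obj L) := e.app (dm L)
  have hc : w.hom ▷ dm K ≫ evc K L = (α_ (dm L) N (dm K)).hom ≫ dm L ◁ ε_ (dm K) N ≫ (ρ_ (dm L)).hom := by
    have h0 : e.hom.app (dm L) ▷ dm K ≫ cu (adjM K) (dm L) = cu (tensorRightAdjunction (dm K) N) (dm L) :=
      (tensorRightAdjunction (dm K) N).rightAdjointUniq_hom_app_counit (adjM K) (dm L)
    rw [cu_adjM] at h0
    refine Eq.trans h0 ?_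
    simp [cu, tensorRightAdjunction, tensorRightHomEquiv]
  have := isIso_evalH (adjM L) (adjM ((DTen.RHomR A K).obj L)) N w (evc K L) hc (dm M)
  let r : dm ((DTen.LTen₂ A).obj ((DTen.RHomR A L).obj M, K)) ⟶ (GM ((DTen.RHomR A K).obj L)).obj (dm M) :=
    rhomd _ ((DTen.RHomR A K).obj L) M ((assocd ((DTen.RHomR A L).obj M) K ((DTen.RHomR A K).obj L)).hom ≫
      ltm (𝟙 (dm ((DTen.RHomR A L).obj M))) (symd ((DTen.RHomR A K).obj L) K ≫ evd K L) ≫ evd L M)
  have hr : IsIso r := by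
    rw [show r = _ from evalHom_eq K L M]
    infer_instance
  exact hr

end Groth.Agent.KFlat.Mon
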