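import Groth.Agent.KFlat.BaseTen
import Mathlib.LinearAlgebra.TensorProduct.Tower

/-!
The projection formula on complexes: `res E ⊗_R K ≅ res (E ⊗_{R'} (K ⊗_R R'))`.
-/

set_option autoImplicit false
set_option backward.isDefEq.respectTransparency false

universe u

open CategoryTheory CategoryTheory.Limits MonoidalCategory HomologicalComplex

attribute [local instance] HasDerivedCategory.standard

namespace Groth.Agent.KFlat.Mon

variable {R R' : Type u} [CommRing R] [CommRing R'] (φ : R →+* R')

/-- The module-level projection map. -/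
noncomputable def pm (M : ModuleCat.{u} R') (N : ModuleCat.{u} R) :
    (DTen.resM φ).obj M ⊗ N ⟶ (DTen.resM φ).obj (M ⊗ (DTen.extM φ).obj N) :=
  (DTen.resM φ).obj M ◁ (ModuleCat.extendRestrictScalarsAdj.{u, u, u} φ).unit.app N ≫
    DTen.resTen₀app φ M ((DTen.extM φ).obj N)

lemma bijective_pm (M : ModuleCat.{u} R') (N : ModuleCat.{u} R) : Function.Bijective (pm φ M N).hom := by
  let : Algebra R R' := φ.toAlgebra
  let : Module R M := Module.compHom M φ
  have : IsScalarTower R R' M := ⟨fun r s x => by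
    show (φ r * s) • x = φ r • (s • x)
    rw [mul_smul]⟩
  let e := TensorProduct.AlgebraTensorModule.cancelBaseChange R R' R' M N
  have h : ∀ x, (pm φ M N).hom x = e.symm x := fun x => by
    induction x using TensorProduct.induction_on with
    | zero => exact (map_zero (pm φ M N).hom).trans (map_zero e.symm).symm
    | tmul m n => rfl
    | add a b ha hb =>
      exact (map_add (pm φ M N).hom a b).trans ((congrArg₂ (· + ·) ha hb).trans (map_add e.symm a b).symm)
  rw [show ⇑(pm φ M N).hom = ⇑e.symm from funext h]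
  exact e.symm.bijective

lemma isIso_pm (M : ModuleCat.{u} R') (N : ModuleCat.{u} R) : IsIso (pm φ M N) :=
  (ConcreteCategory.isIso_iff_bijective _).2 (bijective_pm φ M N)

/-- The projection map of complexes. -/
noncomputable def pc (E : DRing.Cx R') (K : DRing.Cx R) :
    (DTen.resCx φ).obj E ⊗ K ⟶ (DTen.resCx φ).obj (E ⊗ (DTen.extCx φ).obj K) :=
  (DTen.resCx φ).obj E ◁ (DTen.unitCx φ).app K ≫ DTen.resTenCx φ E ((DTen.extCx φ).obj K)

lemma ι_pc (E : DRing.Cx R') (K : DRing.Cx R) (p q n : ℤ) (h : p + q = n) :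
    ιTensorObj ((DTen.resCx φ).obj E) K p q n h ≫ (pc φ E K).f n =
      pm φ (E.X p) (K.X q) ≫ (DTen.resM φ).map (ιTensorObj E ((DTen.extCx φ).obj K) p q n h) := by
  refine (Category.assoc _ _ _).symm.trans ?_
  refine (congrArg (fun t => t ≫ _) (ι_mapBifunctorMap (𝟙 _) ((DTen.unitCx φ).app K)
    (curriedTensor (ModuleCat.{u} R)) (ComplexShape.up ℤ) p q n h)).trans ?_
  simp only [pm, curriedTensor_obj_map, Category.assoc, HomologicalComplex.id_f]
  erw [DTen.ι_resTenCx φ E ((DTen.extCx φ).obj K) p q n h]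
  simp
  rfl

lemma isIso_pc (E : DRing.Cx R') (K : DRing.Cx R) : IsIso (pc φ E K) := by
  have : ∀ n : ℤ, IsIso ((pc φ E K).f n) := fun n => by
    have hpm := fun p q => isIso_pm φ (E.X p) (K.X q)
    let B := DTen.tenBicx E ((DTen.extCx φ).obj K)
    let t := TotMap.mapTotalIso (DTen.resM φ) B (ComplexShape.up ℤ)
    let g : ((DTen.resCx φ).obj (E ⊗ (DTen.extCx φ).obj K)).X n ⟶ ((DTen.resCx φ).obj E ⊗ K).X n :=
      t.hom.f n ≫ HomologicalComplex₂.totalDesc _ (fun p q h =>
        @inv _ _ _ _ (pm φ (E.X p) (K.X q)) (hpm p q) ≫ ιTensorObj ((DTen.resCx φ).obj E) K p q n h)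
    have hg : ∀ (p q : ℤ) (h : p + q = n), (DTen.resM φ).map (ιTensorObj E ((DTen.extCx φ).obj K) p q n h) ≫ g =
        @inv _ _ _ _ (pm φ (E.X p) (K.X q)) (hpm p q) ≫ ιTensorObj ((DTen.resCx φ).obj E) K p q n h := fun p q h => by
      refine (Category.assoc _ _ _).symm.trans ?_
      refine (congrArg (fun t => t ≫ _)
        (TotMap.map_ιTotal_mapTotalIso_hom_f (DTen.resM φ) B (ComplexShape.up ℤ) p q n h)).trans ?_
      exact HomologicalComplex₂.ι_totalDesc _ _ p q h
    refine ⟨g, mapBifunctor.hom_ext fun p q h => ?_, ?_⟩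
    · refine (Category.assoc _ _ _).symm.trans ?_
      refine (congrArg (fun t => t ≫ _) (ι_pc φ E K p q n h)).trans ?_
      refine (Category.assoc _ _ _).trans ?_
      refine (congrArg (fun t => _ ≫ t) (hg p q h)).trans ?_
      exact (IsIso.hom_inv_id_assoc _ _).trans (Category.comp_id _).symm
    · have ht : IsIso (t.hom.f n) := inferInstance
      refine (cancel_epi (t.inv.f n)).1 ?_
      refine HomologicalComplex₂.total.hom_ext _ fun p q h => ?_
      have e : ((TotMap.map₂ (DTen.resM φ) (ComplexShape.up ℤ) (ComplexShape.up ℤ)).obj B).ιTotal (ComplexShape.up ℤ) p q n h ≫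
          t.inv.f n = (DTen.resM φ).map (ιTensorObj E ((DTen.extCx φ).obj K) p q n h) :=
        TotMap.ιTotal_mapTotalIso_inv_f (DTen.resM φ) B (ComplexShape.up ℤ) p q n h
      refine (Category.assoc _ _ _).symm.trans ((congrArg (fun t => t ≫ _) e).trans ?_)
      refine Eq.trans ?_ ((congrArg (fun t => t ≫ _) e).symm.trans (Category.assoc _ _ _))
      refine (Category.assoc _ _ _).symm.trans ((congrArg (fun t => t ≫ _) (hg p q h)).trans ?_)
      refine (Category.assoc _ _ _).trans ((congrArg (fun t => _ ≫ t) (ι_pc φ E K p q n h)).trans ?_)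
      exact (IsIso.inv_hom_id_assoc _ _).trans (Category.comp_id _).symm
  exact HomologicalComplex.Hom.isIso_of_components _

end Groth.Agent.KFlat.Mon
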