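import Mathlib.CategoryTheory.Monoidal.Functor
import Mathlib.CategoryTheory.Monoidal.Rigid.Basic
import Mathlib.CategoryTheory.Adjunction.Unique
import Mathlib.Tactic.CategoryTheory.Monoidal.Basic

/-!
The right adjoint `H` of the right adjoint `G` of a monoidal functor `F`, when the projection formula holds and
`G 1` is dualizable: `H ≅ H 1 ⊗ F -`.
-/

set_option autoImplicit false

universe v v' u u'

open CategoryTheory MonoidalCategory Functor.LaxMonoidal Functor.OplaxMonoidal

namespace Groth.Agent.KFlat.Mon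

variable {C : Type u} [Category.{v} C] [MonoidalCategory C] {D : Type u'} [Category.{v'} D] [MonoidalCategory D]
  {F : C ⥤ D} [F.Monoidal] {G : D ⥤ C} [G.LaxMonoidal] (adj : F ⊣ G)

/-- The unit, with its target spelled out. -/
def un (X : C) : X ⟶ G.obj (F.obj X) := adj.unit.app X

/-- The counit, with its source spelled out. -/
def cn (X : D) : F.obj (G.obj X) ⟶ X := adj.counit.app X

omit [MonoidalCategory C] [MonoidalCategory D] [F.Monoidal] [G.LaxMonoidal] in
lemma un_natural {X Y : C} (k : X ⟶ Y) : k ≫ un adj Y = un adj X ≫ G.map (F.map k) := adj.unit.naturality k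

omit [MonoidalCategory C] [MonoidalCategory D] [F.Monoidal] [G.LaxMonoidal] in
lemma map_un_cn (X : C) : F.map (un adj X) ≫ cn adj (F.obj X) = 𝟙 _ := adj.left_triangle_components X

omit [MonoidalCategory C] [MonoidalCategory D] [F.Monoidal] [G.LaxMonoidal] in
lemma homEquiv_symm_cn {X : C} {Y : D} (g : X ⟶ G.obj Y) : (adj.homEquiv X Y).symm g = F.map g ≫ cn adj Y :=
  adj.homEquiv_counit X Y g

/-- The projection map `G E ⊗ K ⟶ G (E ⊗ F K)`. -/
def projM (E : D) (K : C) : G.obj E ⊗ K ⟶ G.obj (E ⊗ F.obj K) :=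
  G.obj E ◁ un adj K ≫ μ G E (F.obj K)

omit [F.Monoidal] in
lemma projM_natural_right (E : D) {K K' : C} (k : K ⟶ K') :
    G.obj E ◁ k ≫ projM adj E K' = projM adj E K ≫ G.map (E ◁ F.map k) := by
  simp only [projM, Category.assoc, ← μ_natural_right, ← MonoidalCategory.whiskerLeft_comp_assoc]
  rw [un_natural]

omit [F.Monoidal] in
lemma projM_natural_left {E E' : D} (e : E ⟶ E') (K : C) :
    G.map e ▷ K ≫ projM adj E' K = projM adj E K ≫ G.map (e ▷ F.obj K) := by
  simp only [projM, Category.assoc, ← μ_natural_left]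
  exact (whisker_exchange_assoc (G.map e) (un adj K) _).symm

variable [adj.IsMonoidal]

lemma map_μ_cn (X Y : D) : F.map (μ G X Y) ≫ cn adj (X ⊗ Y) = δ F _ _ ≫ (cn adj X ⊗ₘ cn adj Y) :=
  adj.map_μ_comp_counit_app_tensor X Y

lemma un_tensor (X Y : C) : un adj (X ⊗ Y) ≫ G.map (δ F X Y) = (un adj X ⊗ₘ un adj Y) ≫ μ G _ _ :=
  adj.unit_app_tensor_comp_map_δ X Y

lemma homEquiv_symm_projM (E : D) (K : C) :
    (adj.homEquiv _ _).symm (projM adj E K) = δ F (G.obj E) K ≫ cn adj E ▷ F.obj K := by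
  rw [homEquiv_symm_cn, projM, Functor.map_comp, Category.assoc, map_μ_cn, ← δ_natural_right_assoc]
  refine congrArg (fun t => _ ≫ t) ?_
  rw [tensorHom_def', ← MonoidalCategory.whiskerLeft_comp_assoc, map_un_cn, MonoidalCategory.whiskerLeft_id,
    Category.id_comp]

/-- `G 1 ⊗ Y ⟶ G (F Y)`. -/
def projUnit (Y : C) : G.obj (𝟙_ D) ⊗ Y ⟶ G.obj (F.obj Y) :=
  projM adj (𝟙_ D) Y ≫ G.map (λ_ (F.obj Y)).hom

omit [adj.IsMonoidal] [F.Monoidal] in
lemma projUnit_natural {Y Y' : C} (g : Y ⟶ Y') :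
    G.obj (𝟙_ D) ◁ g ≫ projUnit adj Y' = projUnit adj Y ≫ G.map (F.map g) := by
  simp only [projUnit, Category.assoc]
  rw [← Category.assoc, projM_natural_right, Category.assoc, ← Functor.map_comp, ← Functor.map_comp,
    leftUnitor_naturality]

lemma projUnit_tensor (Z K : C) :
    (α_ (G.obj (𝟙_ D)) Z K).inv ≫ projUnit adj Z ▷ K ≫ projM adj (F.obj Z) K =
      projUnit adj (Z ⊗ K) ≫ G.map (δ F Z K) := by
  simp only [projUnit, projM, comp_whiskerRight, Category.assoc, ← Functor.map_comp, ← leftUnitor_naturality]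
  simp only [Functor.map_comp]
  rw [← μ_natural_right_assoc, ← MonoidalCategory.whiskerLeft_comp_assoc, un_tensor,
    tensorHom_def, MonoidalCategory.whiskerLeft_comp, MonoidalCategory.whiskerLeft_comp]
  rw [← whisker_exchange_assoc, μ_natural_left]
  simp only [Category.assoc]
  rw [
    reassoc_of% (show G.obj (𝟙_ D) ◁ μ G (F.obj Z) (F.obj K) ≫ μ G (𝟙_ D) (F.obj Z ⊗ F.obj K) =
      (α_ _ _ _).inv ≫ μ G (𝟙_ D) (F.obj Z) ▷ G.obj (F.obj K) ≫ μ G (𝟙_ D ⊗ F.obj Z) (F.obj K) ≫
        G.map (α_ _ _ _).hom from by rw [Functor.LaxMonoidal.associativity, Iso.inv_hom_id_assoc])]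
  rw [associator_inv_naturality_right_assoc, associator_inv_naturality_middle_assoc, whisker_exchange_assoc]
  rw [← Functor.map_comp, leftUnitor_tensor_hom, Iso.hom_inv_id_assoc]

variable {H : C ⥤ D} (adj' : G ⊣ H) [∀ (E : D) (K : C), IsIso (projM adj E K)]

/-- The comparison `H 1 ⊗ F K ⟶ H K`. -/
noncomputable def relHom (K : C) : H.obj (𝟙_ C) ⊗ F.obj K ⟶ H.obj K :=
  adj'.homEquiv _ _ (inv (projM adj (H.obj (𝟙_ C)) K) ≫ cn adj' (𝟙_ C) ▷ K ≫ (λ_ K).hom)

omit [adj.IsMonoidal] [F.Monoidal] in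
lemma relHom_natural {K K' : C} (k : K ⟶ K') :
    H.obj (𝟙_ C) ◁ F.map k ≫ relHom adj adj' K' = relHom adj adj' K ≫ H.map k := by
  rw [relHom, relHom, ← adj'.homEquiv_naturality_left, ← adj'.homEquiv_naturality_right]
  refine congrArg _ ?_
  rw [← cancel_epi (projM adj (H.obj (𝟙_ C)) K), ← reassoc_of% projM_natural_right]
  simp only [IsIso.hom_inv_id_assoc, Category.assoc]
  rw [whisker_exchange_assoc, leftUnitor_naturality]

/-- The natural comparison. -/
noncomputable def relNat : F ⋙ tensorLeft (H.obj (𝟙_ C)) ⟶ H where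
  app K := relHom adj adj' K
  naturality _ _ k := relHom_natural adj adj' k

variable [G.ReflectsIsomorphisms]

/-- For dualizable `G 1` the comparison is an isomorphism. -/
theorem isIso_relHom (N : C) [ExactPairing N (G.obj (𝟙_ D))] (K : C) : IsIso (relHom adj adj' K) := by
  have hj : ∀ Y, IsIso (projUnit adj Y) := fun Y => by unfold projUnit; infer_instance
  let M := H.obj (𝟙_ C)
  let a := G.obj (𝟙_ D)
  let d : a ⊗ G.obj M ⟶ 𝟙_ C := projUnit adj (G.obj M) ≫ G.map (cn adj M) ≫ cn adj' (𝟙_ C)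
  -- `G M` is the dual of `G 1`
  have hd : ∀ Y : C, Function.Bijective fun f : Y ⟶ G.obj M => a ◁ f ≫ d := by
    intro Y
    have e : (fun f : Y ⟶ G.obj M => a ◁ f ≫ d) =
        ⇑((((adj.homEquiv Y M).symm.trans (adj'.homEquiv (F.obj Y) (𝟙_ C)).symm).trans
          (@asIso _ _ _ _ (projUnit adj Y) (hj Y)).symm.homFromEquiv)) := by
      funext f
      simp only [Equiv.trans_apply, Iso.homFromEquiv_apply, Iso.symm_inv, asIso_hom, homEquiv_symm_cn,
        homEquiv_symm_cn, Functor.map_comp, Category.assoc, d]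
      rw [← Category.assoc (a ◁ f), projUnit_natural, Category.assoc, homEquiv_symm_cn adj', Functor.map_comp, Category.assoc]
    exact e ▸ Equiv.bijective _
  let u : G.obj M ⟶ N := tensorLeftHomEquiv (G.obj M) N a (𝟙_ C) d ≫ (ρ_ N).hom
  have hu : a ◁ u ≫ ε_ N a = d := by
    have h := (tensorLeftHomEquiv (G.obj M) N a (𝟙_ C)).symm_apply_apply d
    refine Eq.trans ?_ h
    simp only [u, tensorLeftHomEquiv, Equiv.coe_fn_symm_mk]
    monoidal
  have hu' : IsIso u := by
    refine isIso_of_yoneda_map_bijective _ fun Y => ?_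
    have e : (fun f : Y ⟶ G.obj M => f ≫ u) =
        (fun t => tensorLeftHomEquiv Y N a (𝟙_ C) t ≫ (ρ_ N).hom) ∘ (fun f : Y ⟶ G.obj M => a ◁ f ≫ d) := by
      funext f
      rw [Function.comp_apply, ← cancel_mono (ρ_ N).inv]
      simp only [Category.assoc, Iso.hom_inv_id, Category.comp_id]
      refine (tensorLeftHomEquiv Y N a (𝟙_ C)).symm.injective ?_
      rw [Equiv.symm_apply_apply]
      simp only [tensorLeftHomEquiv, Equiv.coe_fn_symm_mk]
      rw [← hu]
      monoidal
    rw [e]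
    exact ((tensorLeftHomEquiv Y N a (𝟙_ C)).trans (ρ_ N).homToEquiv).bijective.comp (hd Y)
  have : IsIso (G.map (relHom adj adj' K)) := by
    refine isIso_of_yoneda_map_bijective _ fun Y => ?_
    let E := (((asIso (u ▷ K)).homToEquiv (Z := Y)).trans (tensorLeftHomEquiv Y N a K).symm).trans
      ((@asIso _ _ _ _ (projUnit adj Y) (hj Y)).homFromEquiv.trans
        ((adj'.homEquiv (F.obj Y) K).trans (adj.homEquiv Y (H.obj K))))
    have e : (fun g : Y ⟶ G.obj (M ⊗ F.obj K) => g ≫ G.map (relHom adj adj' K)) =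
        ⇑((asIso (projM adj M K)).symm.homToEquiv.trans E) := by
      funext g
      obtain ⟨h, rfl⟩ : ∃ h, g = h ≫ projM adj M K := ⟨g ≫ inv (projM adj M K), by simp⟩
      refine (adj.homEquiv _ _).symm.injective ((adj'.homEquiv _ _).symm.injective ?_)
      simp only [E, Equiv.trans_apply, Equiv.symm_apply_apply, Iso.homFromEquiv_apply, Iso.homToEquiv_apply, asIso_hom,
        asIso_inv, Iso.symm_hom, Category.assoc, IsIso.hom_inv_id, Category.comp_id]
      rw [← cancel_epi (projUnit adj Y), IsIso.hom_inv_id_assoc, adj.homEquiv_naturality_left_symm,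
        adj.homEquiv_naturality_right_symm, homEquiv_symm_projM, adj'.homEquiv_naturality_left_symm,
        adj'.homEquiv_naturality_left_symm, relHom, Equiv.symm_apply_apply]
      simp only [Functor.map_comp, Category.assoc]
      rw [← Category.assoc (projUnit adj Y), ← projUnit_natural, Category.assoc,
        ← Category.assoc (projUnit adj (G.obj M ⊗ K)), ← projUnit_tensor]
      simp only [Category.assoc]
      rw [← reassoc_of% projM_natural_left, IsIso.hom_inv_id_assoc, ← comp_whiskerRight_assoc,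
        ← comp_whiskerRight_assoc, Category.assoc]
      simp only [tensorLeftHomEquiv, Equiv.coe_fn_symm_mk]
      rw [show projUnit adj (G.obj M) ≫ G.map (cn adj M) ≫ cn adj' (𝟙_ C) = d from rfl, ← hu]
      monoidal
    exact e ▸ Equiv.bijective _
  exact isIso_of_reflects_iso _ G

include adj adj' in
/-- `H ≅ H 1 ⊗ F -`. -/
theorem nonempty_rel_iso (N : C) [ExactPairing N (G.obj (𝟙_ D))] : Nonempty (H ≅ F ⋙ tensorLeft (H.obj (𝟙_ C))) :=
  have : ∀ K, IsIso ((relNat adj adj').app K) := fun K => isIso_relHom adj adj' N K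
  have : IsIso (relNat adj adj') := NatIso.isIso_of_isIso_app _
  ⟨(asIso (relNat adj adj')).symm⟩

end Groth.Agent.KFlat.Mon
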