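import Groth.Agent.KFlat.Mon.BCPerfect
import Groth.Agent.KFlat.Mon.ProjCx
import Groth.Agent.KFlat.Mon.RelDual
import Mathlib.CategoryTheory.Localization.Monoidal.Functor

/-!
Derived base change is a monoidal functor, and the projection formula holds.
-/

set_option autoImplicit false

universe u

open CategoryTheory CategoryTheory.Limits MonoidalCategory HomologicalComplex

attribute [local instance] HasDerivedCategory.standard

namespace Groth.Agent.KFlat.Mon

variable {R R' : Type u} [CommRing R] [CommRing R'] (φ : R →+* R') [DTen.HasLBase φ]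

/-- Derived base change, on the monoidal categories. -/
noncomputable def LB : DM R ⥤ DM R' := DTen.LBase φ

/-- Restriction, on the monoidal categories. -/
noncomputable def Res : DM R' ⥤ DM R := DRing.restrictD φ

/-- The adjunction, on the monoidal categories. -/
noncomputable def adjD : LB φ ⊣ Res φ := DTen.baseAdj φ

/-- `bl`, with the source spelled through `LB`. -/
noncomputable def blD (Z : KF R) : (LB φ).obj (dm ((L R).obj Z)) ≅ dm ((L R').obj ((extKF φ).obj Z)) := bl φ Z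

/-- Base change lifts extension of scalars of K-flat complexes. -/
noncomputable def blIso : L' R ⋙ LB φ ≅ extKF φ ⋙ L' R' :=
  NatIso.ofComponents (fun Z => bl φ Z) fun f => bl_natural φ f

noncomputable instance liftingLB : Localization.Lifting (L' R) (W R) (extKF φ ⋙ L' R') (LB φ) := ⟨blIso φ⟩

noncomputable instance monoidal_LB : (LB φ).Monoidal :=
  Localization.Monoidal.functorMonoidalOfComp (L' R) (W R) (LB φ) (extKF φ ⋙ L' R')

noncomputable instance laxMonoidal_Res : (Res φ).LaxMonoidal := (adjD φ).rightAdjointLaxMonoidal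

omit [DTen.HasLBase φ] in
lemma isIso_of_isIso_restrictD {X Y : Dual.D R'} (f : X ⟶ Y) [IsIso ((DRing.restrictD φ).map f)] : IsIso f := by
  obtain ⟨⟨l, r, h⟩, ⟨e⟩⟩ := Functor.EssSurj.mem_essImage (F := DerivedCategory.Qh.mapArrow) (Arrow.mk f)
  obtain ⟨K₁, rfl⟩ := HomotopyCategory.quotient_obj_surjective l
  obtain ⟨K₂, rfl⟩ := HomotopyCategory.quotient_obj_surjective r
  obtain ⟨g, rfl⟩ := (HomotopyCategory.quotient (ModuleCat.{u} R') (ComplexShape.up ℤ)).map_surjective h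
  refine ((MorphismProperty.isomorphisms (Dual.D R')).arrow_iso_iff e).1 ?_
  show IsIso (DerivedCategory.Q.map g)
  have h1 : IsIso ((DRing.restrictD φ).map (DerivedCategory.Q.map g)) :=
    ((MorphismProperty.isomorphisms (Dual.D R)).arrow_iso_iff ((DRing.restrictD φ).mapArrow.mapIso e)).2
      (inferInstanceAs (IsIso ((DRing.restrictD φ).map f)))
  have h2 : IsIso (DerivedCategory.Q.map ((DTen.resCx φ).map g)) :=
    (NatIso.isIso_map_iff (DTen.resFactors φ) g).1 h1
  rw [DerivedCategory.isIso_Q_map_iff_quasiIso] at h2 ⊢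
  exact (quasiIso_map_iff_of_preservesHomology g (DTen.resM φ)).1 h2

instance reflectsIsomorphisms_Res : (Res φ).ReflectsIsomorphisms where
  reflects {X Y} f h :=
    have : IsIso ((DRing.restrictD φ).map (show (show Dual.D R' from X) ⟶ (show Dual.D R' from Y) from f)) := h
    isIso_of_isIso_restrictD φ (show (show Dual.D R' from X) ⟶ (show Dual.D R' from Y) from f)

lemma μ_LB (X Y : KF R) : Functor.LaxMonoidal.μ (LB φ) (dm ((L R).obj X)) (dm ((L R).obj Y)) =
    ((blD φ X).hom ⊗ₘ (blD φ Y).hom) ≫ (μd ((extKF φ).obj X) ((extKF φ).obj Y)).hom ≫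
      Lm (Functor.LaxMonoidal.μ (extKF φ) X Y) ≫ (blD φ (X ⊗ Y)).inv ≫ (LB φ).map (μd X Y).inv := by
  refine (Localization.Monoidal.functorMonoidalOfComp_μ (L' R) (W R) (LB φ) (extKF φ ⋙ L' R') X Y).trans ?_
  exact congrArg (fun t => ((blD φ X).hom ⊗ₘ (blD φ Y).hom) ≫ t) (Category.assoc _ _ _)

lemma δ_LB (X Y : KF R) :
    (LB φ).map (μd X Y).inv ≫ Functor.OplaxMonoidal.δ (LB φ) (dm ((L R).obj X)) (dm ((L R).obj Y)) ≫
        ((blD φ X).hom ⊗ₘ (blD φ Y).hom) =
      (blD φ (X ⊗ Y)).hom ≫ Lm (Functor.OplaxMonoidal.δ (extKF φ) X Y) ≫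
        (μd ((extKF φ).obj X) ((extKF φ).obj Y)).inv := by
  have e2 : Lm (Functor.LaxMonoidal.μ (extKF φ) X Y) ≫ Lm (Functor.OplaxMonoidal.δ (extKF φ) X Y) =
      𝟙 (dm ((L R').obj ((extKF φ).obj X ⊗ (extKF φ).obj Y))) :=
    ((L R').map_comp _ _).symm.trans
      ((congrArg (L R').map (Functor.Monoidal.μ_δ (extKF φ) X Y)).trans ((L R').map_id _))
  have h : Functor.LaxMonoidal.μ (LB φ) (dm ((L R).obj X)) (dm ((L R).obj Y)) ≫
      (LB φ).map (μd X Y).hom ≫ (blD φ (X ⊗ Y)).hom ≫ Lm (Functor.OplaxMonoidal.δ (extKF φ) X Y) ≫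
        (μd ((extKF φ).obj X) ((extKF φ).obj Y)).inv = (blD φ X).hom ⊗ₘ (blD φ Y).hom := by
    simp only [μ_LB, Category.assoc, Iso.map_inv_hom_id_assoc, Iso.inv_hom_id_assoc]
    rw [ra e2, Category.id_comp, Iso.hom_inv_id, Category.comp_id]
  rw [← h, Functor.Monoidal.δ_μ_assoc, Iso.map_inv_hom_id_assoc]

/-- `resCx` of a K-flat complex, in `D(R)`. -/
noncomputable def resIso (E : KF R') : dm (DerivedCategory.Q.obj ((DTen.resCx φ).obj E.obj)) ≅ (Res φ).obj (dm ((L R').obj E)) :=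
  (DTen.resFactors φ).symm.app E.obj

/-- The adjunct of a map to a restricted complex. -/
lemma homEquiv_bl (X : KF R) (E : KF R') (f : (extKF φ).obj X ⟶ E) (g : X.obj ⟶ (DTen.resCx φ).obj E.obj)
    (hg : (DTen.unitCx φ).app X.obj ≫ (DTen.resCx φ).map f.hom = g) :
    (adjD φ).homEquiv (dm ((L R).obj X)) (dm ((L R').obj E)) ((blD φ X).hom ≫ Lm f) =
      (show dm ((L R).obj X) ⟶ dm (DerivedCategory.Q.obj ((DTen.resCx φ).obj E.obj)) from DerivedCategory.Q.map g) ≫
        (resIso φ E).hom := by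
  refine ((DTen.baseAdj φ).homEquiv_unit _ _ _).trans ?_
  subst hg
  refine (congrArg (fun t => _ ≫ t) ((DRing.restrictD φ).map_comp _ _)).trans ?_
  refine (Category.assoc _ _ _).symm.trans ?_
  refine (congrArg (fun t => t ≫ _) (DTen.baseCmp_fac φ X.obj)).trans ?_
  refine (Category.assoc _ _ _).trans ?_
  refine (congrArg (fun t => _ ≫ t) ((DTen.resFactors φ).inv.naturality f.hom).symm).trans ?_
  refine (Category.assoc _ _ _).symm.trans ?_
  exact congrArg (fun t => t ≫ _) (DerivedCategory.Q.map_comp _ _).symm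

/-- The projection formula. -/
lemma isIso_projM (E : DM R') (K : DM R) : IsIso (projM (adjD φ) E K) := by
  obtain ⟨Ec, ⟨iE⟩⟩ := exists_KF (A := R') E
  obtain ⟨Kc, ⟨iK⟩⟩ := exists_KF (A := R) K
  let iE' : dm ((L R').obj Ec) ≅ E := iE
  let iK' : dm ((L R).obj Kc) ≅ K := iK
  suffices h : IsIso (projM (adjD φ) (dm ((L R').obj Ec)) (dm ((L R).obj Kc))) by
    have h1 : IsIso (projM (adjD φ) E (dm ((L R).obj Kc))) := by
      have e := projM_natural_left (adjD φ) iE'.hom (dm ((L R).obj Kc))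
      have : IsIso ((Res φ).map iE'.hom ▷ dm ((L R).obj Kc) ≫ projM (adjD φ) E (dm ((L R).obj Kc))) :=
        e ▸ inferInstance
      exact IsIso.of_isIso_comp_left ((Res φ).map iE'.hom ▷ dm ((L R).obj Kc)) _
    have e := projM_natural_right (adjD φ) E iK'.hom
    have : IsIso ((Res φ).obj E ◁ iK'.hom ≫ projM (adjD φ) E K) := e ▸ inferInstance
    exact IsIso.of_isIso_comp_left ((Res φ).obj E ◁ iK'.hom) _
  let rE := (DTen.resCx φ).obj Ec.obj
  let X : KF R := (RR R).obj rE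
  let q : X.obj ⟶ rE := (res R).q.app rE
  have hq : QuasiIso q := (mem_quasiIso_iff _).1 ((res R).q_mem rE)
  let f : (extKF φ).obj X ⟶ Ec := ObjectProperty.homMk (((LBase.adjCx φ).homEquiv X.obj Ec.obj).symm q)
  have hf : (DTen.unitCx φ).app X.obj ≫ (DTen.resCx φ).map f.hom = q :=
    ((LBase.adjCx φ).homEquiv_unit X.obj Ec.obj (((LBase.adjCx φ).homEquiv X.obj Ec.obj).symm q)).symm.trans
      (((LBase.adjCx φ).homEquiv X.obj Ec.obj).apply_symm_apply q)
  let x : dm ((L R).obj X) ⟶ (Res φ).obj (dm ((L R').obj Ec)) :=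
    (adjD φ).homEquiv _ _ ((blD φ X).hom ≫ Lm f)
  have hx : IsIso x := by
    have : IsIso (DerivedCategory.Q.map q) :=
      Localization.inverts DerivedCategory.Q (DTen.qis R) _ ((res R).q_mem rE)
    have : IsIso (show dm ((L R).obj X) ⟶ dm (DerivedCategory.Q.obj rE) from DerivedCategory.Q.map q) := this
    rw [show x = _ from homEquiv_bl φ X Ec f q hf]
    infer_instance
  have hsymm : ((adjD φ).homEquiv _ _).symm (x ▷ dm ((L R).obj Kc) ≫ projM (adjD φ) _ _) =
      Functor.OplaxMonoidal.δ (LB φ) _ _ ≫ ((blD φ X).hom ≫ Lm f) ▷ (LB φ).obj (dm ((L R).obj Kc)) := by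
    rw [(adjD φ).homEquiv_naturality_left_symm, homEquiv_symm_projM, ← Functor.OplaxMonoidal.δ_natural_left_assoc,
      ← comp_whiskerRight, ← homEquiv_symm_cn, Equiv.symm_apply_apply]
  let j : dm ((L R').obj Ec) ⊗ (LB φ).obj (dm ((L R).obj Kc)) ≅ dm ((L R').obj (Ec ⊗ (extKF φ).obj Kc)) :=
    whiskerLeftIso _ (blD φ Kc) ≪≫ μd Ec ((extKF φ).obj Kc)
  let Φc : (X ⊗ Kc).obj ⟶ (DTen.resCx φ).obj (Ec ⊗ (extKF φ).obj Kc).obj := q ▷ Kc.obj ≫ pc φ Ec.obj Kc.obj
  have hcx : (DTen.unitCx φ).app (X ⊗ Kc).obj ≫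
      (DTen.resCx φ).map (Functor.OplaxMonoidal.δ (extKF φ) X Kc ≫ f ▷ (extKF φ).obj Kc).hom = Φc := by
    show (DTen.unitCx φ).app (X.obj ⊗ Kc.obj) ≫
      (DTen.resCx φ).map ((DTen.extTenCxIso φ X.obj Kc.obj).hom ≫ f.hom ▷ (DTen.extCx φ).obj Kc.obj) = Φc
    rw [Functor.map_comp]
    refine (Category.assoc _ _ _).symm.trans ?_
    refine (congrArg (fun t => t ≫ _) (BaseTen.unitCx_extTenCxIso φ X.obj Kc.obj)).trans ?_
    refine (Category.assoc _ _ _).trans ?_
    have n := DTen.resTenCx_naturality φ f.hom (𝟙 ((DTen.extCx φ).obj Kc.obj))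
    rw [tensorHom_id] at n
    refine (congrArg (fun t => _ ≫ t) n.symm).trans ?_
    refine (Category.assoc _ _ _).symm.trans ?_
    rw [tensorHom_comp_tensorHom]
    refine (congrArg₂ (fun s t => (s ⊗ₘ t) ≫ _) hf ((congrArg (fun t => _ ≫ t) ((DTen.resCx φ).map_id _)).trans
      (Category.comp_id _))).trans ?_
    simp only [Φc, pc, tensorHom_def, Category.assoc]
    rfl
  have key : (μd X Kc).inv ≫ x ▷ dm ((L R).obj Kc) ≫ projM (adjD φ) _ _ ≫ (Res φ).map j.hom =
      (show dm ((L R).obj (X ⊗ Kc)) ⟶ dm (DerivedCategory.Q.obj ((DTen.resCx φ).obj (Ec ⊗ (extKF φ).obj Kc).obj)) from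
        DerivedCategory.Q.map Φc) ≫ (resIso φ (Ec ⊗ (extKF φ).obj Kc)).hom := by
    refine Eq.trans ?_ (homEquiv_bl φ (X ⊗ Kc) (Ec ⊗ (extKF φ).obj Kc) _ Φc hcx)
    refine ((adjD φ).homEquiv _ _).symm.injective ?_
    rw [Equiv.symm_apply_apply, ← Category.assoc (x ▷ _), (adjD φ).homEquiv_naturality_left_symm,
      (adjD φ).homEquiv_naturality_right_symm, hsymm]
    simp only [j, Iso.trans_hom, whiskerLeftIso_hom, comp_whiskerRight, Category.assoc]
    rw [← whisker_exchange_assoc, ← tensorHom_def_assoc]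
    have d := δ_LB φ X Kc
    rw [ra₃ d]
    simp only [Category.assoc]
    have n : Lm f ▷ dm ((L R').obj ((extKF φ).obj Kc)) ≫ (μd Ec ((extKF φ).obj Kc)).hom =
        (μd ((extKF φ).obj X) ((extKF φ).obj Kc)).hom ≫ Lm (f ▷ (extKF φ).obj Kc) :=
      Functor.LaxMonoidal.μ_natural_left (L' R') f ((extKF φ).obj Kc)
    erw [n]
    rw [ra (μd ((extKF φ).obj X) ((extKF φ).obj Kc)).inv_hom_id, Category.id_comp]
    exact congrArg (fun t => _ ≫ t) ((L R').map_comp _ _).symm
  have hΦ : IsIso (show dm ((L R).obj (X ⊗ Kc)) ⟶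
      dm (DerivedCategory.Q.obj ((DTen.resCx φ).obj (Ec ⊗ (extKF φ).obj Kc).obj)) from DerivedCategory.Q.map Φc) := by
    have := isIso_pc φ Ec.obj Kc.obj
    have : IsIso (DerivedCategory.Q.map (q ▷ Kc.obj)) :=
      isIso_Q_map _ (quasiIso_whiskerRight Kc.2 q hq)
    have : IsIso (DerivedCategory.Q.map Φc) := by
      rw [Functor.map_comp]
      exact IsIso.comp_isIso' this (Functor.map_isIso DerivedCategory.Q _)
    exact this
  have h2 : IsIso ((μd X Kc).inv ≫ x ▷ dm ((L R).obj Kc) ≫ projM (adjD φ) _ _ ≫ (Res φ).map j.hom) :=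
    key ▸ IsIso.comp_isIso' hΦ inferInstance
  have h3 := IsIso.of_isIso_comp_left (μd X Kc).inv (x ▷ dm ((L R).obj Kc) ≫ projM (adjD φ) _ _ ≫ (Res φ).map j.hom)
  have h4 := IsIso.of_isIso_comp_left (x ▷ dm ((L R).obj Kc)) (projM (adjD φ) _ _ ≫ (Res φ).map j.hom)
  exact IsIso.of_isIso_comp_right (projM (adjD φ) _ _) ((Res φ).map j.hom)

end Groth.Agent.KFlat.Mon
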