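import Groth.Agent.KFlat.Mon.Closed

/-!
The evaluation `(M ⊗ N) ⊗ K ⟶ M` of an exact pairing.
-/

set_option autoImplicit false

universe v u v' u'

open CategoryTheory MonoidalCategory

namespace Groth.Agent.KFlat.Mon

variable {C : Type u} [Category.{v} C] [MonoidalCategory C]

/-- `(M ⊗ N) ⊗ K ⟶ M`. -/
def tE (M K N : C) [ExactPairing K N] : (M ⊗ N) ⊗ K ⟶ M :=
  (α_ M N K).hom ≫ M ◁ ε_ K N ≫ (ρ_ M).hom

lemma tE_natural {M M' : C} (f : M ⟶ M') (K N : C) [ExactPairing K N] :
    (f ▷ N) ▷ K ≫ tE M' K N = tE M K N ≫ f := by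
  simp only [tE, Category.assoc]
  rw [associator_naturality_left_assoc, ← whisker_exchange_assoc, rightUnitor_naturality]

lemma tE_congr {K K' : C} (M N : C) [ExactPairing K' N] (i : K ≅ K') :
    letI : ExactPairing K N := exactPairingCongrLeft i
    (M ⊗ N) ◁ i.inv ≫ tE M K N = tE M K' N := by
  let : ExactPairing K N := exactPairingCongrLeft i
  have he : ε_ K N = N ◁ i.hom ≫ ε_ K' N := rfl
  simp only [tE, he]
  rw [associator_naturality_right_assoc, whiskerLeft_comp, Category.assoc, ← whiskerLeft_comp_assoc M,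
    ← whiskerLeft_comp N, Iso.inv_hom_id, MonoidalCategory.whiskerLeft_id, MonoidalCategory.whiskerLeft_id, Category.id_comp]

lemma tE_map {D : Type u'} [Category.{v'} D] [MonoidalCategory D] (F : C ⥤ D) [F.Monoidal] (M K N : C)
    [ExactPairing K N] :
    letI : ExactPairing (F.obj K) (F.obj N) := mapPairing F K N
    Functor.LaxMonoidal.μ F M N ▷ F.obj K ≫ Functor.LaxMonoidal.μ F (M ⊗ N) K ≫ F.map (tE M K N) =
      tE (F.obj M) (F.obj K) (F.obj N) := by
  let : ExactPairing (F.obj K) (F.obj N) := mapPairing F K N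
  have he : ε_ (F.obj K) (F.obj N) = Functor.LaxMonoidal.μ F N K ≫ F.map (ε_ K N) ≫ Functor.OplaxMonoidal.η F := rfl
  simp only [tE, he, Functor.map_comp, Functor.LaxMonoidal.associativity_assoc, whiskerLeft_comp, Category.assoc,
    Functor.Monoidal.map_rightUnitor, Functor.LaxMonoidal.μ_natural_right_assoc]
  simp

/-- A map out of `C₀` whose adjunct is the evaluation of a pairing is invertible. -/
theorem isIso_of_adjunct_tE {K N C₀ M : C} [ExactPairing K N] {G : C ⥤ C} (adj : tensorRight K ⊣ G) (e : C₀ ⊗ K ⟶ M)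
    (i : M ⊗ N ≅ C₀) (h : i.hom ▷ K ≫ e = tE M K N) : IsIso (adj.homEquiv C₀ M e) := by
  have h1 : i.hom ≫ adj.homEquiv C₀ M e = ((tensorRightAdjunction K N).rightAdjointUniq adj).hom.app M := by
    refine (adj.homEquiv _ _).symm.injective ?_
    rw [adj.homEquiv_naturality_left_symm, Equiv.symm_apply_apply]
    refine h.trans ?_
    rw [homEquiv_symm_cu]
    refine Eq.trans ?_ ((tensorRightAdjunction K N).rightAdjointUniq_hom_app_counit adj M).symm
    simp [tE, tensorRightAdjunction, tensorRightHomEquiv]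
  have : IsIso (i.hom ≫ adj.homEquiv C₀ M e) := h1 ▸ inferInstance
  exact IsIso.of_isIso_comp_left i.hom _

end Groth.Agent.KFlat.Mon
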