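import Groth.Agent.KFlat.Mon.Pairing
import Groth.Prelude.Def_DTen6

/-!
Extension of scalars on cochain complexes is a monoidal functor.
-/

set_option autoImplicit false
set_option backward.isDefEq.respectTransparency false

universe u

open CategoryTheory CategoryTheory.Limits MonoidalCategory HomologicalComplex

attribute [local instance] HasDerivedCategory.standard

namespace Groth.Agent.KFlat.Mon

variable {R R' : Type u} [CommRing R] [CommRing R'] (φ : R →+* R')

/-- The unit comparison. -/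
noncomputable def extεIso : 𝟙_ (DRing.Cx R') ≅ (DTen.extCx φ).obj (𝟙_ (DRing.Cx R)) :=
  (single _ (ComplexShape.up ℤ) 0).mapIso (Functor.Monoidal.εIso (DTen.extM φ)) ≪≫
    ((singleMapHomologicalComplex (DTen.extM φ) (ComplexShape.up ℤ) 0).app (𝟙_ (ModuleCat.{u} R))).symm

lemma extεIso_hom_f : (extεIso φ).hom.f 0 =
    (singleObjXSelf (ComplexShape.up ℤ) 0 (𝟙_ (ModuleCat.{u} R'))).hom ≫ Functor.LaxMonoidal.ε (DTen.extM φ) ≫
      (DTen.extM φ).map (singleObjXSelf (ComplexShape.up ℤ) 0 (𝟙_ (ModuleCat.{u} R))).inv := by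
  simp [extεIso, single_map_f_self]

lemma ext_ι₁₂ (X Y Z : DRing.Cx R) (p q r n : ℤ) (h : p + q + r = n) :
    ι₁₂ ((DTen.extCx φ).obj X) ((DTen.extCx φ).obj Y) ((DTen.extCx φ).obj Z) p q r n h ≫
        ((DTen.extTenCxIso φ X Y).inv ▷ (DTen.extCx φ).obj Z).f n ≫ (DTen.extTenCxIso φ (X ⊗ Y) Z).inv.f n =
      Functor.LaxMonoidal.μ (DTen.extM φ) (X.X p) (Y.X q) ▷ (DTen.extM φ).obj (Z.X r) ≫
        Functor.LaxMonoidal.μ (DTen.extM φ) (X.X p ⊗ Y.X q) (Z.X r) ≫ (DTen.extM φ).map (ι₁₂ X Y Z p q r n h) := by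
  rw [ι₁₂_eq _ _ _ p q r n h (p + q) rfl, Category.assoc]
  erw [reassoc_of% (ι_whiskerRight (DTen.extTenCxIso φ X Y).inv ((DTen.extCx φ).obj Z) (p + q) r n (by omega)),
    ← comp_whiskerRight_assoc, DTen.ι_extTenCxIso_inv φ X Y p q (p + q) rfl,
    DTen.ι_extTenCxIso_inv φ (X ⊗ Y) Z (p + q) r n (by omega), comp_whiskerRight, Category.assoc,
    Functor.LaxMonoidal.μ_natural_left_assoc, ← Functor.map_comp]
  rfl

lemma ext_ι₂₃ (X Y Z : DRing.Cx R) (p q r n : ℤ) (h : p + q + r = n) :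
    ι₂₃ ((DTen.extCx φ).obj X) ((DTen.extCx φ).obj Y) ((DTen.extCx φ).obj Z) p q r n h ≫
        ((DTen.extCx φ).obj X ◁ (DTen.extTenCxIso φ Y Z).inv).f n ≫ (DTen.extTenCxIso φ X (Y ⊗ Z)).inv.f n =
      (DTen.extM φ).obj (X.X p) ◁ Functor.LaxMonoidal.μ (DTen.extM φ) (Y.X q) (Z.X r) ≫
        Functor.LaxMonoidal.μ (DTen.extM φ) (X.X p) (Y.X q ⊗ Z.X r) ≫ (DTen.extM φ).map (ι₂₃ X Y Z p q r n h) := by
  rw [ι₂₃_eq _ _ _ p q r n h (q + r) rfl, Category.assoc]
  erw [reassoc_of% (ι_whiskerLeft ((DTen.extCx φ).obj X) (DTen.extTenCxIso φ Y Z).inv p (q + r) n (by omega)),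
    ← whiskerLeft_comp_assoc, DTen.ι_extTenCxIso_inv φ Y Z q r (q + r) rfl,
    DTen.ι_extTenCxIso_inv φ X (Y ⊗ Z) p (q + r) n (by omega), whiskerLeft_comp, Category.assoc,
    Functor.LaxMonoidal.μ_natural_right_assoc, ← Functor.map_comp]
  rfl

lemma ext_associativity (X Y Z : DRing.Cx R) :
    (DTen.extTenCxIso φ X Y).inv ▷ (DTen.extCx φ).obj Z ≫ (DTen.extTenCxIso φ (X ⊗ Y) Z).inv ≫
        (DTen.extCx φ).map (α_ X Y Z).hom =
      (α_ _ _ _).hom ≫ (DTen.extCx φ).obj X ◁ (DTen.extTenCxIso φ Y Z).inv ≫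
        (DTen.extTenCxIso φ X (Y ⊗ Z)).inv := by
  refine HomologicalComplex.hom_ext _ _ fun n => hom_ext₁₂ _ _ _ fun p q r h => ?_
  simp only [HomologicalComplex.comp_f]
  rw [reassoc_of% (ext_ι₁₂ φ X Y Z p q r n h),
    reassoc_of% (ι₁₂_associator ((DTen.extCx φ).obj X) ((DTen.extCx φ).obj Y) ((DTen.extCx φ).obj Z) p q r n h),
    ext_ι₂₃ φ X Y Z p q r n h]
  erw [← Functor.map_comp, ι₁₂_associator X Y Z p q r n h]
  rw [Functor.map_comp, Functor.LaxMonoidal.associativity_assoc]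
  rfl

lemma ext_left_unitality (X : DRing.Cx R) :
    (λ_ ((DTen.extCx φ).obj X)).inv ≫ (extεIso φ).hom ▷ (DTen.extCx φ).obj X ≫
      (DTen.extTenCxIso φ (𝟙_ (DRing.Cx R)) X).inv = (DTen.extCx φ).map (λ_ X).inv := by
  refine HomologicalComplex.hom_ext _ _ fun n => ?_
  simp only [HomologicalComplex.comp_f, Functor.mapHomologicalComplex_map_f]
  erw [leftUnitor_inv_f, leftUnitor_inv_f]
  simp only [Category.assoc, Functor.map_comp]
  erw [reassoc_of% (ι_whiskerRight (extεIso φ).hom ((DTen.extCx φ).obj X) 0 n n (zero_add n)),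
    DTen.ι_extTenCxIso_inv φ (𝟙_ (DRing.Cx R)) X 0 n n (zero_add n), extεIso_hom_f, ← comp_whiskerRight_assoc,
    Iso.inv_hom_id_assoc, comp_whiskerRight, Category.assoc, Functor.LaxMonoidal.μ_natural_left_assoc]
  rw [Functor.Monoidal.map_leftUnitor_inv]
  simp only [Category.assoc]
  rfl

lemma ext_right_unitality (X : DRing.Cx R) :
    (ρ_ ((DTen.extCx φ).obj X)).inv ≫ (DTen.extCx φ).obj X ◁ (extεIso φ).hom ≫
      (DTen.extTenCxIso φ X (𝟙_ (DRing.Cx R))).inv = (DTen.extCx φ).map (ρ_ X).inv := by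
  refine HomologicalComplex.hom_ext _ _ fun n => ?_
  simp only [HomologicalComplex.comp_f, Functor.mapHomologicalComplex_map_f]
  erw [rightUnitor_inv_f, rightUnitor_inv_f]
  simp only [Category.assoc, Functor.map_comp]
  erw [reassoc_of% (ι_whiskerLeft ((DTen.extCx φ).obj X) (extεIso φ).hom n 0 n (add_zero n)),
    DTen.ι_extTenCxIso_inv φ X (𝟙_ (DRing.Cx R)) n 0 n (add_zero n), extεIso_hom_f, ← whiskerLeft_comp_assoc,
    Iso.inv_hom_id_assoc, whiskerLeft_comp, Category.assoc, Functor.LaxMonoidal.μ_natural_right_assoc]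
  rw [Functor.Monoidal.map_rightUnitor_inv]
  simp only [Category.assoc]
  rfl

/-- Extension of scalars on complexes, as a monoidal functor. -/
noncomputable def extCore : Functor.CoreMonoidal (DTen.extCx φ) where
  εIso := extεIso φ
  μIso X Y := (DTen.extTenCxIso φ X Y).symm
  μIso_hom_natural_left f X' := by
    have := DTen.extTenCxIso_inv_naturality φ f (𝟙 X')
    simpa using this
  μIso_hom_natural_right X' f := by
    have := DTen.extTenCxIso_inv_naturality φ (𝟙 X') f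
    simpa using this
  associativity X Y Z := ext_associativity φ X Y Z
  left_unitality X := by
    refine (cancel_epi (λ_ ((DTen.extCx φ).obj X)).inv).1 ?_
    dsimp only [Iso.symm_hom]
    erw [reassoc_of% (ext_left_unitality φ X), ← Functor.map_comp]
    simp
  right_unitality X := by
    refine (cancel_epi (ρ_ ((DTen.extCx φ).obj X)).inv).1 ?_
    dsimp only [Iso.symm_hom]
    erw [reassoc_of% (ext_right_unitality φ X), ← Functor.map_comp]
    simp

noncomputable instance extMonoidal : (DTen.extCx φ).Monoidal := (extCore φ).toMonoidal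

lemma ext_μ (X Y : DRing.Cx R) : Functor.LaxMonoidal.μ (DTen.extCx φ) X Y = (DTen.extTenCxIso φ X Y).inv := rfl

end Groth.Agent.KFlat.Mon
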