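import Groth.Agent.KFlat.Mon.EvalHom
import Groth.Agent.KFlat.Mon.EvalFormula
import Groth.Agent.KFlat.Mon.ExtFun
import Groth.Agent.KFlat.BaseTen

/-!
Derived base change of `RHom` out of a perfect object.
-/

set_option autoImplicit false

universe u

open CategoryTheory CategoryTheory.Limits MonoidalCategory

attribute [local instance] HasDerivedCategory.standard

namespace Groth.Agent.KFlat.Mon

/-- Reassociation, without normalising the objects. -/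
lemma ra {C : Type*} [Category C] {X Y Z W : C} {f : X ⟶ Y} {g : Y ⟶ Z} {h : X ⟶ Z} (e : f ≫ g = h) (k : Z ⟶ W) :
    f ≫ g ≫ k = h ≫ k := by
  rw [← e, Category.assoc]

/-- Reassociation, without normalising the objects. -/
lemma ra₃ {C : Type*} [Category C] {X Y Y' Z W : C} {f : X ⟶ Y} {g : Y ⟶ Y'} {g' : Y' ⟶ Z} {h : X ⟶ Z}
    (e : f ≫ g ≫ g' = h) (k : Z ⟶ W) : f ≫ g ≫ g' ≫ k = h ≫ k := by
  rw [← e, Category.assoc, Category.assoc]

section RHomSide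

variable {A : Type u} [CommRing A]

lemma μd_L' [DTen.HasLTen A] (X Y : KF A) : (μd X Y).hom = Functor.LaxMonoidal.μ (L' A) X Y := rfl

lemma ltm_comp [DTen.HasLTen A] {a a' a'' b b' b'' : Dual.D A} (f : dm a ⟶ dm a') (f' : dm a' ⟶ dm a'')
    (g : dm b ⟶ dm b') (g' : dm b' ⟶ dm b'') : ltm (f ≫ f') (g ≫ g') = ltm f g ≫ ltm f' g' :=
  (DTen.LTen₂ A).map_comp (X := (a, b)) (Y := (a', b')) (Z := (a'', b'')) (f, g) (f', g')

/-- Every object of `D(A)` is the image of a K-flat complex. -/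
lemma exists_KF (K : Dual.D A) : ∃ X : KF A, Nonempty ((L A).obj X ≅ K) := by
  let E := DerivedCategory.Q.objPreimage K
  refine ⟨(RR A).obj E, ⟨?_⟩⟩
  have : IsIso (DerivedCategory.Q.map ((res A).q.app E)) :=
    Localization.inverts DerivedCategory.Q (DTen.qis A) _ ((res A).q_mem E)
  exact asIso (DerivedCategory.Q.map ((res A).q.app E)) ≪≫ DerivedCategory.Q.objObjPreimageIso K

/-- A perfect object is the image of a dualizable K-flat complex. -/
lemma exists_KF_pairing {K : Dual.D A} (hK : DRing.IsPerfect A K) :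
    ∃ X Y : KF A, Nonempty (ExactPairing X Y) ∧ Nonempty ((L A).obj X ≅ K) := by
  obtain ⟨E, a, b, hab, hE, ⟨e⟩⟩ := hK
  let : ExactPairing E (dualCx E) := cxPairing E hE a b hab
  let X : KF A := ⟨E, isKFlat_of_perfectCx E a b hab hE⟩
  let Y : KF A := ⟨dualCx E, isKFlat_dualCx E a b hab hE⟩
  exact ⟨X, Y, ⟨kfPairing X Y⟩, ⟨e⟩⟩

variable [DTen.HasLTen A] [DTen.HasRHom A]

/-- `RHom(K, M)` through a pairing of K-flat complexes. -/
lemma exists_rhom_formula {K M : Dual.D A} (X Y Z : KF A) [ExactPairing X Y]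
    (iK : dm ((L A).obj X) ≅ dm K) (iM : dm ((L A).obj Z) ≅ dm M) :
    ∃ u : dm ((L A).obj (Z ⊗ Y)) ≅ dm ((DTen.RHomR A K).obj M),
      ltm u.hom iK.hom ≫ evd K M = εd (Z ⊗ Y) X ≫ Lm (tE Z X Y) ≫ iM.hom := by
  let : ExactPairing (dm ((L A).obj X)) (dm ((L A).obj Y)) := mapPairing (L' A) X Y
  let : ExactPairing (dm K) (dm ((L A).obj Y)) := exactPairingCongrLeft iK.symm
  let w : dm M ⊗ dm ((L A).obj Y) ≅ (GM K).obj (dm M) :=
    ((tensorRightAdjunction (dm K) (dm ((L A).obj Y))).rightAdjointUniq (adjM K)).app (dm M)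
  have hw : w.hom ▷ dm K ≫ cu (adjM K) (dm M) = tE (dm M) (dm K) (dm ((L A).obj Y)) := by
    refine ((tensorRightAdjunction (dm K) (dm ((L A).obj Y))).rightAdjointUniq_hom_app_counit (adjM K) (dm M)).trans ?_
    simp [tE, tensorRightAdjunction, tensorRightHomEquiv]
  let u' : dm ((L A).obj (Z ⊗ Y)) ≅ (GM K).obj (dm M) :=
    (μd Z Y).symm ≪≫ whiskerRightIso iM (dm ((L A).obj Y)) ≪≫ w
  let u : dm ((L A).obj (Z ⊗ Y)) ≅ dm ((DTen.RHomR A K).obj M) :=
    { hom := u'.hom, inv := u'.inv, hom_inv_id := u'.hom_inv_id, inv_hom_id := u'.inv_hom_id }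
  refine ⟨u, ?_⟩
  have n : ltm u.hom iK.hom ≫ (θG₁ K M).hom = (θi ((L A).obj (Z ⊗ Y)) ((L A).obj X)).hom ≫ (u'.hom ⊗ₘ iK.hom) :=
    θi_natural u.hom iK.hom
  rw [← θG₁_cu K M, reassoc_of% n, ← θi_app (Z ⊗ Y) X, Category.assoc]
  refine congrArg (fun t => _ ≫ t) ?_
  rw [tensorHom_def', Category.assoc]
  simp only [u', Iso.trans_hom, Iso.symm_hom, whiskerRightIso_hom, comp_whiskerRight, Category.assoc]
  rw [hw]
  erw [whisker_exchange_assoc, whisker_exchange_assoc]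
  have hk : (dm M ⊗ dm ((L A).obj Y)) ◁ iK.hom ≫ tE (dm M) (dm K) (dm ((L A).obj Y)) =
      tE (dm M) (dm ((L A).obj X)) (dm ((L A).obj Y)) := tE_congr (dm M) (dm ((L A).obj Y)) iK.symm
  erw [hk, tE_natural, ← cancel_epi ((μd Z Y).hom ▷ dm ((L A).obj X)), hom_inv_whiskerRight_assoc]
  have hm : (μd Z Y).hom ▷ dm ((L A).obj X) ≫ (μd (Z ⊗ Y) X).hom ≫ Lm (tE Z X Y) =
      tE (dm ((L A).obj Z)) (dm ((L A).obj X)) (dm ((L A).obj Y)) := tE_map (L' A) Z X Y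
  exact (ra₃ hm _).symm

end RHomSide

section BaseChange

variable {R R' : Type u} [CommRing R] [CommRing R'] (φ : R →+* R')

/-- Extension of scalars on K-flat complexes. -/
noncomputable abbrev extKF : KF R ⥤ KF R' :=
  (flatP R').lift ((flatP R).ι ⋙ DTen.extCx φ) fun X => isKFlat_ext φ X.2

/-- The monoidal structure of extension of scalars on K-flat complexes. -/
noncomputable def extKFCore : Functor.CoreMonoidal (extKF φ) where
  εIso := ObjectProperty.isoMk _ (extεIso φ)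
  μIso X Y := ObjectProperty.isoMk _ (DTen.extTenCxIso φ X.obj Y.obj).symm
  μIso_hom_natural_left f X' := ObjectProperty.hom_ext _ ((extCore φ).μIso_hom_natural_left f.hom X'.obj)
  μIso_hom_natural_right X' f := ObjectProperty.hom_ext _ ((extCore φ).μIso_hom_natural_right X'.obj f.hom)
  associativity X Y Z := ObjectProperty.hom_ext _ ((extCore φ).associativity X.obj Y.obj Z.obj)
  left_unitality X := ObjectProperty.hom_ext _ ((extCore φ).left_unitality X.obj)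
  right_unitality X := ObjectProperty.hom_ext _ ((extCore φ).right_unitality X.obj)

noncomputable instance extKF_monoidal : (extKF φ).Monoidal := (extKFCore φ).toMonoidal

variable [DTen.HasLTen R] [DTen.HasLTen R'] [DTen.HasLBase φ] [DTen.HasResTen φ] [DTen.ResLegIso φ]

/-- Derived base change on morphisms, in the monoidal categories. -/
noncomputable def Bm {a b : Dual.D R} (f : dm a ⟶ dm b) : dm ((DTen.LBase φ).obj a) ⟶ dm ((DTen.LBase φ).obj b) :=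
  (DTen.LBase φ).map f

omit [DTen.HasLTen R] [DTen.HasLTen R'] [DTen.HasResTen φ] [DTen.ResLegIso φ] in
lemma Bm_comp {a b c : Dual.D R} (f : dm a ⟶ dm b) (g : dm b ⟶ dm c) : Bm φ (f ≫ g) = Bm φ f ≫ Bm φ g :=
  (DTen.LBase φ).map_comp f g

/-- Monoidality of derived base change, in the monoidal categories. -/
noncomputable def βd (a b : Dual.D R) :
    dm ((DTen.LBase φ).obj ((DTen.LTen₂ R).obj (a, b))) ≅
      dm ((DTen.LTen₂ R').obj ((DTen.LBase φ).obj a, (DTen.LBase φ).obj b)) :=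
  @asIso _ _ (dm ((DTen.LBase φ).obj ((DTen.LTen₂ R).obj (a, b))))
    (dm ((DTen.LTen₂ R').obj ((DTen.LBase φ).obj a, (DTen.LBase φ).obj b)))
    ((BaseTen.β φ).app (a, b)) (BaseTen.isIso_β φ (a, b))

lemma βd_natural {a a' b b' : Dual.D R} (f : dm a ⟶ dm a') (g : dm b ⟶ dm b') :
    Bm φ (ltm f g) ≫ (βd φ a' b').hom = (βd φ a b).hom ≫ ltm (Bm φ f) (Bm φ g) :=
  (BaseTen.β φ).naturality (X := (a, b)) (Y := (a', b')) (f, g)

/-- `baseCmp` at a K-flat complex. -/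
noncomputable def bl (Z : KF R) : dm ((DTen.LBase φ).obj ((L R).obj Z)) ≅ dm ((L R').obj ((extKF φ).obj Z)) :=
  @asIso _ _ (dm ((DTen.LBase φ).obj ((L R).obj Z))) (dm ((L R').obj ((extKF φ).obj Z)))
    ((DTen.baseCmp φ).app Z.obj) (LBase.isIso_baseCmp φ Z.obj Z.2)

omit [DTen.HasLTen R] [DTen.HasLTen R'] [DTen.HasResTen φ] [DTen.ResLegIso φ] in
lemma bl_natural {Z W : KF R} (f : Z ⟶ W) : Bm φ (Lm f) ≫ (bl φ W).hom = (bl φ Z).hom ≫ Lm ((extKF φ).map f) :=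
  (DTen.baseCmp φ).naturality f.hom

lemma βd_bl (X Y : KF R) :
    (βd φ _ _).hom ≫ ltm (bl φ X).hom (bl φ Y).hom ≫ εd ((extKF φ).obj X) ((extKF φ).obj Y) =
      Bm φ (εd X Y) ≫ (bl φ (X ⊗ Y)).hom ≫ Lm (Functor.OplaxMonoidal.δ (extKF φ) X Y) :=
  BaseTen.β_baseCmp φ X.obj Y.obj

lemma evd_baseChange (X W Z : KF R) (f : W ⊗ X ⟶ Z) :
    ltm (bl φ W).inv (bl φ X).inv ≫ (βd φ _ _).inv ≫ Bm φ (εd W X ≫ Lm f) ≫ (bl φ Z).hom =
      εd ((extKF φ).obj W) ((extKF φ).obj X) ≫ Lm (Functor.LaxMonoidal.μ (extKF φ) W X ≫ (extKF φ).map f) := by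
  have h := βd_bl φ W X
  rw [Bm_comp, Category.assoc, bl_natural]
  have e : Bm φ (εd W X) ≫ (bl φ (W ⊗ X)).hom =
      (βd φ _ _).hom ≫ ltm (bl φ W).hom (bl φ X).hom ≫ εd _ _ ≫ Lm (Functor.LaxMonoidal.μ (extKF φ) W X) := by
    rw [ra₃ h]
    have : Lm (Functor.OplaxMonoidal.δ (extKF φ) W X) ≫ Lm (Functor.LaxMonoidal.μ (extKF φ) W X) =
        𝟙 (dm ((L R').obj ((extKF φ).obj (W ⊗ X)))) :=
      ((L R').map_comp _ _).symm.trans
        ((congrArg (L R').map (Functor.Monoidal.δ_μ (extKF φ) W X)).trans ((L R').map_id _))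
    rw [Category.assoc, Category.assoc, this, Category.comp_id]
  rw [ra e]
  simp only [Category.assoc]
  rw [ra (βd φ ((L R).obj W) ((L R).obj X)).inv_hom_id, Category.id_comp]
  have e2 : ltm (bl φ W).inv (bl φ X).inv ≫ ltm (bl φ W).hom (bl φ X).hom = 𝟙 _ := by
    refine ((DTen.LTen₂ R').map_comp _ _).symm.trans (((DTen.LTen₂ R').congr_map ?_).trans ((DTen.LTen₂ R').map_id _))
    exact Prod.ext (bl φ W).inv_hom_id (bl φ X).inv_hom_id
  rw [ra e2, Category.id_comp]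
  exact congrArg (fun t => _ ≫ t) ((L R').map_comp _ _).symm

variable [DTen.HasRHom R] [DTen.HasRHom R']

/-- The base change map, in the monoidal category. -/
noncomputable def bcd (K M : Dual.D R) [IsIso (DTen.rhomBC φ K ((DTen.LBase φ).obj M))] :
    dm ((DTen.LBase φ).obj ((DTen.RHomR R K).obj M)) ⟶ (GM ((DTen.LBase φ).obj K)).obj (dm ((DTen.LBase φ).obj M)) :=
  DTen.bcRHom φ K M

/-- The adjunct of the base change map. -/
lemma bcd_ev (K M : Dual.D R) [IsIso (DTen.rhomBC φ K ((DTen.LBase φ).obj M))] :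
    (BaseTen.β φ).app ((DTen.RHomR R K).obj M, K) ≫
      (DTen.LTen₂ R').map (Prod.mkHom (DTen.bcRHom φ K M) (𝟙 ((DTen.LBase φ).obj K))) ≫
        DTen.ev ((DTen.LBase φ).obj K) ((DTen.LBase φ).obj M) = (DTen.LBase φ).map (DTen.ev K M) := by
  refine ((DTen.baseAdj φ).homEquiv _ _).injective ?_
  refine (((DTen.baseAdj φ).homEquiv_naturality_right _ _).trans
    (congrArg (fun t => t ≫ _) (Equiv.apply_symm_apply _ _))).trans ?_
  refine Eq.trans ?_ (((DTen.baseAdj φ).homEquiv_unit _ _ _).trans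
    ((DTen.baseAdj φ).unit.naturality (DTen.ev K M)).symm).symm
  dsimp [BaseTen.c]
  rw [Functor.map_comp, Category.assoc]
  have e := (DTen.resPF φ).naturality (Prod.mkHom (DTen.bcRHom φ K M) (𝟙 ((DTen.LBase φ).obj K)))
  dsimp at e
  rw [← reassoc_of% e, ← Functor.map_comp_assoc]
  have hfac := DTen.bcRHom_fac φ K M
  have hev := (DTen.rhomAdj R K).counit.naturality ((DTen.baseAdj φ).unit.app M)
  have hbc := DTen.rhomBC_fac φ K ((DTen.LBase φ).obj M)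
  dsimp [DTen.rhomBCCore] at hfac hev hbc
  rw [show (Prod.mkHom ((DTen.baseAdj φ).unit.app ((DTen.RHomR R K).obj M)) ((DTen.baseAdj φ).unit.app K) ≫
      Prod.mkHom ((DRing.restrictD φ).map (DTen.bcRHom φ K M))
        ((DRing.restrictD φ).map (𝟙 ((DTen.LBase φ).obj K)))) =
      (Prod.mkHom ((DTen.RHomR R K).map ((DTen.baseAdj φ).unit.app M)) (𝟙 K) ≫
        Prod.mkHom (inv (DTen.rhomBC φ K ((DTen.LBase φ).obj M))) (𝟙 K)) ≫
        Prod.mkHom (𝟙 _) ((DTen.baseAdj φ).unit.app K) from by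
      refine Prod.ext ?_ ?_
      · simpa [Prod.mkHom] using hfac
      · simp [Prod.mkHom], Functor.map_comp, Category.assoc, ← hbc, Functor.map_comp, Category.assoc,
    ← Functor.map_comp_assoc]
  refine Eq.trans ?_ hev
  rw [← Functor.map_comp_assoc]
  congr 2
  simp [Prod.mkHom]

lemma bcd_eq (K M : Dual.D R) [IsIso (DTen.rhomBC φ K ((DTen.LBase φ).obj M))] :
    bcd φ K M = (adjM ((DTen.LBase φ).obj K)).homEquiv _ _ ((θi _ _).inv ≫ (βd φ _ _).inv ≫ Bm φ (evd K M)) := by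
  refine Eq.trans ?_ (rhomd_eq _ _ _ _)
  refine ((DTen.rhomAdj R' ((DTen.LBase φ).obj K)).homEquiv _ _).symm.injective ?_
  refine Eq.trans ((DTen.rhomAdj R' ((DTen.LBase φ).obj K)).homEquiv_counit _ _ _) ?_
  refine Eq.trans ?_ ((DTen.rhomHomEquiv _ _ _).symm_apply_apply _).symm
  refine Eq.trans ?_ ((Iso.eq_inv_comp _).2 (bcd_ev φ K M))
  rfl

/-- Derived base change commutes with `RHom` out of a perfect object. -/
theorem isIso_bcRHom {K : Dual.D R} (M : Dual.D R) [IsIso (DTen.rhomBC φ K ((DTen.LBase φ).obj M))]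
    (hK : DRing.IsPerfect R K) : IsIso (DTen.bcRHom φ K M) := by
  obtain ⟨X, Y, ⟨p⟩, ⟨iK⟩⟩ := exists_KF_pairing hK
  obtain ⟨Z, ⟨iM⟩⟩ := exists_KF M
  let iK' : dm ((L R).obj X) ≅ dm K := iK
  let iM' : dm ((L R).obj Z) ≅ dm M := iM
  obtain ⟨u, hu⟩ := exists_rhom_formula X Y Z iK' iM'
  let : ExactPairing ((extKF φ).obj X) ((extKF φ).obj Y) := mapPairing (extKF φ) X Y
  let : ExactPairing (dm ((L R').obj ((extKF φ).obj X))) (dm ((L R').obj ((extKF φ).obj Y))) :=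
    mapPairing (L' R') ((extKF φ).obj X) ((extKF φ).obj Y)
  let B : ∀ {a b : Dual.D R}, (dm a ≅ dm b) → (dm ((DTen.LBase φ).obj a) ≅ dm ((DTen.LBase φ).obj b)) := fun i =>
    { hom := Bm φ i.hom
      inv := Bm φ i.inv
      hom_inv_id := (Bm_comp φ _ _).symm.trans ((congrArg (Bm φ) i.hom_inv_id).trans ((DTen.LBase φ).map_id _))
      inv_hom_id := (Bm_comp φ _ _).symm.trans ((congrArg (Bm φ) i.inv_hom_id).trans ((DTen.LBase φ).map_id _)) }
  let bK : dm ((L R').obj ((extKF φ).obj X)) ≅ dm ((DTen.LBase φ).obj K) := (bl φ X).symm ≪≫ B iK'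
  let bM : dm ((L R').obj ((extKF φ).obj Z)) ≅ dm ((DTen.LBase φ).obj M) := (bl φ Z).symm ≪≫ B iM'
  let N := dm ((L R').obj ((extKF φ).obj Y))
  let : ExactPairing (dm ((DTen.LBase φ).obj K)) N := exactPairingCongrLeft bK.symm
  let μ₁ : dm ((L R').obj ((extKF φ).obj Z)) ⊗ N ≅ dm ((L R').obj ((extKF φ).obj (Z ⊗ Y))) :=
    μd ((extKF φ).obj Z) ((extKF φ).obj Y) ≪≫ (L' R').mapIso (Functor.Monoidal.μIso (extKF φ) Z Y)
  let v : dm ((L R').obj ((extKF φ).obj (Z ⊗ Y))) ≅ dm ((DTen.LBase φ).obj ((DTen.RHomR R K).obj M)) :=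
    (bl φ (Z ⊗ Y)).symm ≪≫ B u
  let i : dm ((DTen.LBase φ).obj M) ⊗ N ≅ dm ((DTen.LBase φ).obj ((DTen.RHomR R K).obj M)) :=
    (whiskerRightIso bM N).symm ≪≫ μ₁ ≪≫ v
  have key : (v.hom ⊗ₘ bK.hom) ≫ (θi _ _).inv ≫ (βd φ _ _).inv ≫ Bm φ (evd K M) =
      (μd ((extKF φ).obj (Z ⊗ Y)) ((extKF φ).obj X)).hom ≫
        Lm (Functor.LaxMonoidal.μ (extKF φ) (Z ⊗ Y) X ≫ (extKF φ).map (tE Z X Y)) ≫ bM.hom := by
    have n : (v.hom ⊗ₘ bK.hom) ≫ (θi _ _).inv = (θi _ _).inv ≫ ltm v.hom bK.hom := by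
      rw [Iso.comp_inv_eq, Category.assoc, θi_natural, Iso.inv_hom_id_assoc]
    have hs : ltm v.hom bK.hom = ltm (bl φ (Z ⊗ Y)).inv (bl φ X).inv ≫ ltm (Bm φ u.hom) (Bm φ iK'.hom) :=
      ltm_comp _ _ _ _
    have hn : ltm (Bm φ u.hom) (Bm φ iK'.hom) ≫ (βd φ _ _).inv = (βd φ _ _).inv ≫ Bm φ (ltm u.hom iK'.hom) := by
      rw [Iso.comp_inv_eq, Category.assoc, βd_natural, Iso.inv_hom_id_assoc]
    have hu' : Bm φ (ltm u.hom iK'.hom) ≫ Bm φ (evd K M) =
        Bm φ (εd (Z ⊗ Y) X ≫ Lm (tE Z X Y)) ≫ (bl φ Z).hom ≫ bM.hom := by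
      simp only [bM, Iso.trans_hom, Iso.symm_hom, Iso.hom_inv_id_assoc]
      rw [← Bm_comp, hu, ← Category.assoc (εd (Z ⊗ Y) X), Bm_comp]
    rw [ra n, Category.assoc, hs, Category.assoc, ra hn, Category.assoc, hu', ← Category.assoc (Bm φ _),
      ← Category.assoc (βd φ _ _).inv, ← Category.assoc (ltm _ _), evd_baseChange φ X (Z ⊗ Y) Z (tE Z X Y), ← θi_app]
    simp only [Category.assoc]
    rw [ra (θi _ _).inv_hom_id, Category.id_comp]
  have h : i.hom ▷ dm ((DTen.LBase φ).obj K) ≫ (θi _ _).inv ≫ (βd φ _ _).inv ≫ Bm φ (evd K M) =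
      tE (dm ((DTen.LBase φ).obj M)) (dm ((DTen.LBase φ).obj K)) N := by
    refine (cancel_epi ((dm ((DTen.LBase φ).obj M) ⊗ N) ◁ bK.hom)).1 ?_
    refine (cancel_epi ((bM.hom ▷ N) ▷ dm ((L R').obj ((extKF φ).obj X)))).1 ?_
    have hk : (dm ((DTen.LBase φ).obj M) ⊗ N) ◁ bK.hom ≫ tE (dm ((DTen.LBase φ).obj M)) (dm ((DTen.LBase φ).obj K)) N =
        tE (dm ((DTen.LBase φ).obj M)) (dm ((L R').obj ((extKF φ).obj X))) N := tE_congr _ N bK.symm
    rw [hk, tE_natural, ← whisker_exchange_assoc, ← comp_whiskerRight_assoc, ← tensorHom_def'_assoc]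
    simp only [i, Iso.trans_hom, Iso.symm_hom, whiskerRightIso_inv, hom_inv_whiskerRight_assoc]
    rw [show (μ₁.hom ≫ v.hom) ⊗ₘ bK.hom = μ₁.hom ▷ dm ((L R').obj ((extKF φ).obj X)) ≫ (v.hom ⊗ₘ bK.hom) from by
      rw [← tensorHom_id, tensorHom_comp_tensorHom, Category.id_comp]]
    rw [Category.assoc, key]
    have hm : (μd ((extKF φ).obj Z) ((extKF φ).obj Y)).hom ▷ dm ((L R').obj ((extKF φ).obj X)) ≫
        (μd ((extKF φ).obj Z ⊗ (extKF φ).obj Y) ((extKF φ).obj X)).hom ≫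
          Lm (tE ((extKF φ).obj Z) ((extKF φ).obj X) ((extKF φ).obj Y)) =
        tE (dm ((L R').obj ((extKF φ).obj Z))) (dm ((L R').obj ((extKF φ).obj X))) N :=
      tE_map (L' R') ((extKF φ).obj Z) ((extKF φ).obj X) ((extKF φ).obj Y)
    have hμ : Lm (Functor.LaxMonoidal.μ (extKF φ) Z Y) ▷ dm ((L R').obj ((extKF φ).obj X)) ≫
        (μd ((extKF φ).obj (Z ⊗ Y)) ((extKF φ).obj X)).hom =
        (μd ((extKF φ).obj Z ⊗ (extKF φ).obj Y) ((extKF φ).obj X)).hom ≫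
          Lm (Functor.LaxMonoidal.μ (extKF φ) Z Y ▷ (extKF φ).obj X) :=
      Functor.LaxMonoidal.μ_natural_left (L' R') (Functor.LaxMonoidal.μ (extKF φ) Z Y) ((extKF φ).obj X)
    have hl : Lm (Functor.LaxMonoidal.μ (extKF φ) Z Y ▷ (extKF φ).obj X) ≫
        Lm (Functor.LaxMonoidal.μ (extKF φ) (Z ⊗ Y) X ≫ (extKF φ).map (tE Z X Y)) =
        Lm (tE ((extKF φ).obj Z) ((extKF φ).obj X) ((extKF φ).obj Y)) :=
      ((L R').map_comp _ _).symm.trans ((L R').congr_map (tE_map (extKF φ) Z X Y))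
    have hμ₁ : μ₁.hom = (μd ((extKF φ).obj Z) ((extKF φ).obj Y)).hom ≫ Lm (Functor.LaxMonoidal.μ (extKF φ) Z Y) := rfl
    rw [hμ₁, comp_whiskerRight, Category.assoc, ra hμ, Category.assoc, ra hl, ra₃ hm]
  have hiso := isIso_of_adjunct_tE (adjM ((DTen.LBase φ).obj K)) _ i h
  have hb : IsIso (bcd φ K M) := (bcd_eq φ K M).symm ▸ hiso
  exact hb

end BaseChange

end Groth.Agent.KFlat.Mon
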