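import Groth.Prelude.Def_DTen
import Mathlib.CategoryTheory.Monoidal.Braided.Basic

/-!
Cochain complexes of modules over a commutative ring form a symmetric monoidal category, with the Koszul sign.
-/

set_option autoImplicit false

universe u

open CategoryTheory CategoryTheory.Limits MonoidalCategory HomologicalComplex

namespace Groth.Agent.KFlat.Mon

variable {A : Type u} [CommRing A]

local notation "F₀" => curriedTensor (ModuleCat A)

lemma whiskerRight_neg' {X Y : ModuleCat.{u} A} (f : X ⟶ Y) (Z : ModuleCat.{u} A) : (-f) ▷ Z = -(f ▷ Z) :=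
  (tensorRight Z).map_neg (f := f)

lemma whiskerLeft_neg' (Z : ModuleCat.{u} A) {X Y : ModuleCat.{u} A} (f : X ⟶ Y) : Z ◁ (-f) = -(Z ◁ f) :=
  (tensorLeft Z).map_neg (f := f)

lemma neg_comp' {X Y Z : ModuleCat.{u} A} (f : X ⟶ Y) (g : Y ⟶ Z) : (-f) ≫ g = -(f ≫ g) :=
  Preadditive.neg_comp f g

section Summands

variable (K L M : DRing.Cx A) (p q r n : ℤ)

lemma ι_whiskerRight {K K' : DRing.Cx A} (f : K ⟶ K') (L : DRing.Cx A) (p q n : ℤ) (h : p + q = n) :
    ιTensorObj K L p q n h ≫ (f ▷ L).f n = f.f p ▷ L.X q ≫ ιTensorObj K' L p q n h := by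
  refine (ι_mapBifunctorMap f (𝟙 L) (curriedTensor (ModuleCat.{u} A)) (ComplexShape.up ℤ) p q n h).trans ?_
  simp

lemma ι_whiskerLeft (K : DRing.Cx A) {L L' : DRing.Cx A} (g : L ⟶ L') (p q n : ℤ) (h : p + q = n) :
    ιTensorObj K L p q n h ≫ (K ◁ g).f n = K.X p ◁ g.f q ≫ ιTensorObj K L' p q n h := by
  refine (ι_mapBifunctorMap (𝟙 K) g (curriedTensor (ModuleCat.{u} A)) (ComplexShape.up ℤ) p q n h).trans ?_
  simp

/-- The summand `(p, q, r)` of `(K ⊗ L) ⊗ M`. -/
noncomputable def ι₁₂ (h : p + q + r = n) : (K.X p ⊗ L.X q) ⊗ M.X r ⟶ ((K ⊗ L) ⊗ M).X n :=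
  ιTensorObj K L p q (p + q) rfl ▷ M.X r ≫ ιTensorObj (K ⊗ L) M (p + q) r n h

/-- The summand `(p, q, r)` of `K ⊗ (L ⊗ M)`. -/
noncomputable def ι₂₃ (h : p + q + r = n) : K.X p ⊗ (L.X q ⊗ M.X r) ⟶ (K ⊗ (L ⊗ M)).X n :=
  K.X p ◁ ιTensorObj L M q r (q + r) rfl ≫ ιTensorObj K (L ⊗ M) p (q + r) n (by omega)

lemma ι₁₂_eq (h : p + q + r = n) (s : ℤ) (hs : p + q = s) :
    ι₁₂ K L M p q r n h = ιTensorObj K L p q s hs ▷ M.X r ≫ ιTensorObj (K ⊗ L) M s r n (by omega) := by
  subst hs; rfl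

lemma ι₂₃_eq (h : p + q + r = n) (s : ℤ) (hs : q + r = s) :
    ι₂₃ K L M p q r n h = K.X p ◁ ιTensorObj L M q r s hs ≫ ιTensorObj K (L ⊗ M) p s n (by omega) := by
  subst hs; rfl

lemma ι₁₂_associator (h : p + q + r = n) :
    ι₁₂ K L M p q r n h ≫ (α_ K L M).hom.f n =
      (α_ (K.X p) (L.X q) (M.X r)).hom ≫ ι₂₃ K L M p q r n h := by
  have hh : ComplexShape.r (ComplexShape.up ℤ) (ComplexShape.up ℤ) (ComplexShape.up ℤ) (ComplexShape.up ℤ)
      (ComplexShape.up ℤ) (p, q, r) = n := h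
  refine (ι_mapBifunctorAssociatorX_hom (curriedAssociatorNatIso (ModuleCat.{u} A)) K L M (ComplexShape.up ℤ)
    (ComplexShape.up ℤ) (ComplexShape.up ℤ) p q r n hh).trans ?_
  refine congrArg (fun t => _ ≫ t) ?_
  exact mapBifunctor₂₃.ι_eq (curriedTensor (ModuleCat.{u} A)) (curriedTensor (ModuleCat.{u} A)) K L M
    (ComplexShape.up ℤ) (ComplexShape.up ℤ) (ComplexShape.up ℤ) p q r (q + r) n rfl (show p + (q + r) = n by omega)

lemma hom_ext₁₂ {n : ℤ} {X : ModuleCat.{u} A} {f g : ((K ⊗ L) ⊗ M).X n ⟶ X}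
    (h : ∀ (p q r : ℤ) (h : p + q + r = n), ι₁₂ K L M p q r n h ≫ f = ι₁₂ K L M p q r n h ≫ g) : f = g :=
  mapBifunctor₁₂.hom_ext fun p q r hh => h p q r hh

end Summands

lemma ι_braid (K L : DRing.Cx A) (p q n : ℤ) (h : p + q = n) :
    ιTensorObj K L p q n h ≫ (DTen.braidCx K L).hom.f n =
      (p * q).negOnePow • ((β_ (K.X p) (L.X q)).hom ≫ ιTensorObj L K q p n (by omega)) :=
  DTen.ι_braidCx_hom K L p q n h

@[reassoc]
lemma hexagon (K L M : DRing.Cx A) :
    (α_ K L M).hom ≫ (DTen.braidCx K (L ⊗ M)).hom ≫ (α_ L M K).hom =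
      (DTen.braidCx K L).hom ▷ M ≫ (α_ L K M).hom ≫ L ◁ (DTen.braidCx K M).hom := by
  refine HomologicalComplex.hom_ext _ _ fun n => hom_ext₁₂ K L M fun p q r h => ?_
  have h1 : ι₁₂ K L M p q r n h ≫ (α_ K L M).hom.f n ≫ (DTen.braidCx K (L ⊗ M)).hom.f n =
      (p * (q + r)).negOnePow • ((α_ (K.X p) (L.X q) (M.X r)).hom ≫ (β_ (K.X p) (L.X q ⊗ M.X r)).hom ≫
        ι₁₂ L M K q r p n (by omega)) := by
    rw [← Category.assoc, ι₁₂_associator, Category.assoc, ι₂₃_eq K L M p q r n h (q + r) rfl, Category.assoc,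
      ι_braid, ι₁₂_eq L M K q r p n (by omega) (q + r) rfl]
    simp only [Linear.comp_units_smul]
    erw [BraidedCategory.braiding_naturality_right_assoc]

  have h2 : ι₁₂ K L M p q r n h ≫ ((DTen.braidCx K L).hom ▷ M).f n =
      (p * q).negOnePow • ((β_ (K.X p) (L.X q)).hom ▷ M.X r ≫ ι₁₂ L K M q p r n (by omega)) := by
    rw [ι₁₂_eq K L M p q r n h (p + q) rfl, Category.assoc, ι_whiskerRight, ← comp_whiskerRight_assoc, ι_braid,
      ι₁₂_eq L K M q p r n (by omega) (p + q) (by omega)]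
    rcases Int.units_eq_one_or (p * q).negOnePow with e | e <;> simp [e, whiskerRight_neg', neg_comp']
  have h3 : ι₂₃ L K M q p r n (by omega) ≫ (L ◁ (DTen.braidCx K M).hom).f n =
      (p * r).negOnePow • (L.X q ◁ (β_ (K.X p) (M.X r)).hom ≫ ι₂₃ L M K q r p n (by omega)) := by
    rw [ι₂₃_eq L K M q p r n (by omega) (p + r) rfl, Category.assoc, ι_whiskerLeft, ← whiskerLeft_comp_assoc,
      ι_braid, ι₂₃_eq L M K q r p n (by omega) (p + r) (by omega)]
    rcases Int.units_eq_one_or (p * r).negOnePow with e | e <;> simp [e, whiskerLeft_neg', neg_comp']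
  calc ι₁₂ K L M p q r n h ≫ ((α_ K L M).hom ≫ (DTen.braidCx K (L ⊗ M)).hom ≫ (α_ L M K).hom).f n
      = (p * (q + r)).negOnePow • ((α_ (K.X p) (L.X q) (M.X r)).hom ≫ (β_ (K.X p) (L.X q ⊗ M.X r)).hom ≫
          (α_ (L.X q) (M.X r) (K.X p)).hom ≫ ι₂₃ L M K q r p n (by omega)) := by
        simp only [HomologicalComplex.comp_f]
        rw [reassoc_of% h1]
        simp only [Linear.units_smul_comp, Category.assoc, ι₁₂_associator]
    _ = ((p * q).negOnePow * (p * r).negOnePow) • ((β_ (K.X p) (L.X q)).hom ▷ M.X r ≫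
          (α_ (L.X q) (K.X p) (M.X r)).hom ≫ L.X q ◁ (β_ (K.X p) (M.X r)).hom ≫ ι₂₃ L M K q r p n (by omega)) := by
        rw [← Int.negOnePow_add, ← mul_add, BraidedCategory.hexagon_forward_assoc]
    _ = _ := by
        simp only [HomologicalComplex.comp_f]
        rw [reassoc_of% h2]
        simp only [Linear.units_smul_comp, Category.assoc]
        rw [← Category.assoc (ι₁₂ L K M q p r n _), ι₁₂_associator, Category.assoc, h3]
        simp only [Linear.comp_units_smul, Category.assoc, smul_smul]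

@[reassoc (attr := simp)]
lemma symmetry (K L : DRing.Cx A) : (DTen.braidCx K L).hom ≫ (DTen.braidCx L K).hom = 𝟙 _ := by
  refine HomologicalComplex.hom_ext _ _ fun n => mapBifunctor.hom_ext fun p q h => ?_
  rw [HomologicalComplex.comp_f]
  refine (Category.assoc _ _ _).symm.trans ?_
  refine (congrArg (fun t => t ≫ _) (ι_braid K L p q n h)).trans ?_
  simp only [Linear.units_smul_comp, Category.assoc]
  rw [ι_braid L K q p n (by have h' : p + q = n := h; omega)]
  simp [smul_smul, mul_comm q p]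
  rfl

lemma braid_inv (K L : DRing.Cx A) : (DTen.braidCx K L).inv = (DTen.braidCx L K).hom :=
  (Iso.inv_eq_inv (DTen.braidCx K L) (DTen.braidCx L K).symm).2 (by
    rw [← cancel_mono (DTen.braidCx L K).hom, symmetry, Iso.symm_hom, Iso.inv_hom_id])

/-- The braiding with the Koszul sign. -/
noncomputable instance braided : BraidedCategory (DRing.Cx A) where
  braiding := DTen.braidCx
  braiding_naturality_right K _ _ g := by
    have := DTen.braidCx_naturality (𝟙 K) g
    simpa using this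
  braiding_naturality_left f L := by
    have := DTen.braidCx_naturality f (𝟙 L)
    simpa using this
  hexagon_forward := hexagon
  hexagon_reverse K L M := by
    have key : ((α_ M K L).hom ≫ (DTen.braidCx M (K ⊗ L)).hom ≫ (α_ K L M).hom) ≫
        (K ◁ (DTen.braidCx L M).hom ≫ (α_ K M L).inv ≫ (DTen.braidCx K M).hom ▷ L) = 𝟙 _ := by
      rw [hexagon]
      simp only [Category.assoc, ← MonoidalCategory.whiskerLeft_comp_assoc, symmetry, MonoidalCategory.whiskerLeft_id,
        Category.id_comp, Iso.hom_inv_id_assoc, ← comp_whiskerRight, id_whiskerRight]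
    refine (cancel_epi ((α_ M K L).hom ≫ (DTen.braidCx M (K ⊗ L)).hom ≫ (α_ K L M).hom)).1 ?_
    rw [key]
    simp only [Category.assoc, Iso.hom_inv_id_assoc, symmetry_assoc, Iso.hom_inv_id]

noncomputable instance symmetric : SymmetricCategory (DRing.Cx A) where
  symmetry := symmetry

end Groth.Agent.KFlat.Mon
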