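import Groth.Agent.KFlat.DTen
import Groth.Agent.KFlat.Mon.Braided
import Groth.Prelude.Def_DTen3
import Mathlib.CategoryTheory.Monoidal.Subcategory
import Mathlib.CategoryTheory.Localization.Monoidal.Braided

/-!
`D(A)` is the localization of the symmetric monoidal category of K-flat complexes, hence symmetric monoidal;
the tensor product is `DTen.LTen`.
-/

set_option autoImplicit false

universe u

open CategoryTheory CategoryTheory.Limits MonoidalCategory HomologicalComplex

attribute [local instance] HasDerivedCategory.standard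

namespace Groth.Agent.KFlat.Mon

variable (A : Type u) [CommRing A]

/-- K-flatness as a property of objects. -/
def flatP : ObjectProperty (DRing.Cx A) := fun K => DRing.IsKFlat A K

instance : (flatP A).IsMonoidal where
  prop_unit := isKFlat_unit
  prop_tensor _ _ h₁ h₂ := isKFlat_tensor h₁ h₂

/-- The category of K-flat complexes. -/
abbrev KF : Type (u + 1) := (flatP A).FullSubcategory

/-- Quasi-isomorphisms of K-flat complexes. -/
abbrev W : MorphismProperty (KF A) := (DTen.qis A).inverseImage (flatP A).ι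

instance isMonoidal_W : (W A).IsMonoidal where
  whiskerLeft X _ _ g hg := by
    have : QuasiIso g.hom := (mem_quasiIso_iff _).1 hg
    exact (mem_quasiIso_iff _).2 (quasiIso_whiskerLeft X.2 g.hom this)
  whiskerRight f hf Y := by
    have : QuasiIso f.hom := (mem_quasiIso_iff _).1 hf
    exact (mem_quasiIso_iff _).2 (quasiIso_whiskerRight Y.2 f.hom this)

/-- The localization functor. -/
noncomputable abbrev L : KF A ⥤ Dual.D A := (flatP A).ι ⋙ DerivedCategory.Q

lemma inverts : (W A).IsInvertedBy (L A) := fun _ _ _ hf => Localization.inverts DerivedCategory.Q (DTen.qis A) _ hf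

/-- The resolution, as a functor to K-flat complexes. -/
noncomputable abbrev RR : DRing.Cx A ⥤ KF A := (flatP A).lift (res A).R fun K => (res A).good_R K

lemma inverts_RR : (DTen.qis A).IsInvertedBy (RR A ⋙ (W A).Q) := fun _ _ f hf =>
  Localization.inverts (W A).Q (W A) ((RR A).map f) ((res A).map_mem f hf)

/-- `W.Localization ⥤ D(A)`. -/
noncomputable abbrev Φ : (W A).Localization ⥤ Dual.D A := Localization.lift (L A) (inverts A) (W A).Q

/-- `D(A) ⥤ W.Localization`. -/
noncomputable abbrev Ψ : Dual.D A ⥤ (W A).Localization :=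
  Localization.lift (RR A ⋙ (W A).Q) (inverts_RR A) DerivedCategory.Q

/-- The augmentation, in the category of K-flat complexes. -/
noncomputable def qKF : (flatP A).ι ⋙ RR A ⟶ 𝟭 (KF A) where
  app X := ObjectProperty.homMk ((res A).q.app X.obj)
  naturality X Y f := ObjectProperty.hom_ext _ ((res A).q.naturality f.hom)

instance : IsIso (Functor.whiskerRight (qKF A) (W A).Q) :=
  have : ∀ X, IsIso ((Functor.whiskerRight (qKF A) (W A).Q).app X) := fun X =>
    Localization.inverts (W A).Q (W A) ((qKF A).app X) ((res A).q_mem X.obj)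
  NatIso.isIso_of_isIso_app _

instance : IsIso (Functor.whiskerRight (res A).q (DerivedCategory.Q : DRing.Cx A ⥤ Dual.D A)) :=
  have : ∀ X, IsIso ((Functor.whiskerRight (res A).q DerivedCategory.Q).app X) := fun X =>
    Localization.inverts DerivedCategory.Q (DTen.qis A) _ ((res A).q_mem X)
  NatIso.isIso_of_isIso_app _

/-- `(W.Q ⋙ Φ) ⋙ Ψ ≅ W.Q`. -/
noncomputable def unitAux : (W A).Q ⋙ Φ A ⋙ Ψ A ≅ (W A).Q :=
  (Functor.associator _ _ _).symm ≪≫ Functor.isoWhiskerRight (Localization.fac (L A) (inverts A) (W A).Q) (Ψ A) ≪≫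
    Functor.associator _ _ _ ≪≫ Functor.isoWhiskerLeft (flatP A).ι (Localization.fac (RR A ⋙ (W A).Q) (inverts_RR A) _) ≪≫
    (Functor.associator _ _ _).symm ≪≫ asIso (Functor.whiskerRight (qKF A) (W A).Q) ≪≫ Functor.leftUnitor _

/-- `(Q ⋙ Ψ) ⋙ Φ ≅ Q`. -/
noncomputable def counitAux : DerivedCategory.Q ⋙ Ψ A ⋙ Φ A ≅ (DerivedCategory.Q : DRing.Cx A ⥤ Dual.D A) :=
  (Functor.associator _ _ _).symm ≪≫ Functor.isoWhiskerRight (Localization.fac (RR A ⋙ (W A).Q) (inverts_RR A) _) (Φ A) ≪≫
    Functor.associator _ _ _ ≪≫ Functor.isoWhiskerLeft (RR A) (Localization.fac (L A) (inverts A) (W A).Q) ≪≫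
    (Functor.associator _ _ _).symm ≪≫ asIso (Functor.whiskerRight (res A).q DerivedCategory.Q) ≪≫ Functor.leftUnitor _

/-- The comparison equivalence. -/
noncomputable def equiv : (W A).Localization ≌ Dual.D A :=
  CategoryTheory.Equivalence.mk (Φ A) (Ψ A)
    (Localization.liftNatIso (W A).Q (W A) (W A).Q ((W A).Q ⋙ Φ A ⋙ Ψ A) (𝟭 _) (Φ A ⋙ Ψ A) (unitAux A).symm)
    (Localization.liftNatIso DerivedCategory.Q (DTen.qis A) (DerivedCategory.Q ⋙ Ψ A ⋙ Φ A) DerivedCategory.Q
      (Ψ A ⋙ Φ A) (𝟭 _) (counitAux A))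

instance isLocalization_L : (L A).IsLocalization (W A) :=
  Functor.IsLocalization.of_equivalence_target (W A).Q (W A) (L A) (equiv A)
    (Localization.fac (L A) (inverts A) (W A).Q)

/-- The unit isomorphism. -/
noncomputable abbrev ε₀ : (L A).obj (𝟙_ (KF A)) ≅ DTen.unit A := Iso.refl _

/-- `D(A)` as a symmetric monoidal category. -/
abbrev DM := LocalizedMonoidal (L A) (W A) (ε₀ A)

/-- The localization functor, as a monoidal functor. -/
noncomputable abbrev L' : KF A ⥤ DM A := Localization.Monoidal.toMonoidalCategory (L A) (W A) (ε₀ A)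

/-- The localized tensor product. -/
noncomputable abbrev tb : Dual.D A ⥤ Dual.D A ⥤ Dual.D A :=
  Localization.Monoidal.tensorBifunctor (L A) (W A) (ε₀ A)

variable [DTen.HasLTen A]

/-- `LTen` lifts the tensor product of K-flat complexes. -/
noncomputable def liftIso : (((Functor.whiskeringLeft₂ (Dual.D A)).obj (L A)).obj (L A)).obj (DTen.LTen A) ≅
    curriedTensor (KF A) ⋙ (Functor.whiskeringRight _ _ _).obj (L A) :=
  NatIso.ofComponents (fun X => NatIso.ofComponents (fun Y =>
    @asIso _ _ _ _ ((DTen.ε A).app (X.obj, Y.obj)) (isIso_ε X.obj Y.obj (Or.inl X.2)))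
    (fun g => by
      have e := (DTen.εLeft A X.obj).naturality g.hom
      exact e))
    (fun {X X'} f => NatTrans.ext (funext fun Y => (DTen.εRight A Y.obj).naturality f.hom))

noncomputable instance lifting : Localization.Lifting₂ (L A) (L A) (W A) (W A)
    (curriedTensor (KF A) ⋙ (Functor.whiskeringRight _ _ _).obj (L A)) (DTen.LTen A) :=
  ⟨liftIso A⟩

noncomputable instance lifting_tb : Localization.Lifting₂ (L A) (L A) (W A) (W A)
    (curriedTensor (KF A) ⋙ (Functor.whiskeringRight _ _ _).obj (L A)) (tb A) :=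
  inferInstanceAs (Localization.Lifting₂ (L' A) (L' A) (W A) (W A)
    (curriedTensor (KF A) ⋙ (Functor.whiskeringRight _ _ (DM A)).obj (L' A))
    (Localization.Monoidal.tensorBifunctor (L A) (W A) (ε₀ A)))

/-- `LTen` is the localized tensor product. -/
noncomputable def θ : DTen.LTen A ≅ tb A :=
  Localization.lift₂NatIso (L A) (L A) (W A) (W A) (curriedTensor (KF A) ⋙ (Functor.whiskeringRight _ _ _).obj (L A))
    (curriedTensor (KF A) ⋙ (Functor.whiskeringRight _ _ _).obj (L A)) (DTen.LTen A) (tb A) (Iso.refl _)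

variable {A}

lemma θ_app (X Y : KF A) :
    ((θ A).hom.app ((L A).obj X)).app ((L A).obj Y) ≫ (Localization.Monoidal.μ (L A) (W A) (ε₀ A) X Y).hom =
      (DTen.ε A).app (X.obj, Y.obj) := by
  refine (congrArg (fun t => t ≫ (Localization.Monoidal.μ (L A) (W A) (ε₀ A) X Y).hom)
    (Localization.lift₂NatTrans_app_app (L A) (L A) (W A) (W A) _ _ (DTen.LTen A) (tb A) (𝟙 _) X Y)).trans ?_
  simp only [NatTrans.id_app]
  erw [Category.id_comp, Category.assoc, (Localization.Monoidal.μ (L A) (W A) (ε₀ A) X Y).inv_hom_id, Category.comp_id]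
  rfl

end Groth.Agent.KFlat.Mon
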