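import Groth.Agent.KFlat.Mon.Pairing
import Mathlib.CategoryTheory.Monoidal.Rigid.Braided
import Mathlib

/-!
Dualizable complexes of modules are bounded complexes of finite projective modules.
-/

set_option autoImplicit false
universe u

open CategoryTheory CategoryTheory.Limits MonoidalCategory HomologicalComplex

namespace Groth.Agent.KFlat.Mon

variable {A : Type u} [CommRing A] (M N : DRing.Cx A)

theorem finite_projective_of_id_mem_range {V : Type u} [AddCommGroup V] [Module A V]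
    (h : LinearMap.id ∈ LinearMap.range (dualTensorHom A V V)) : Module.Finite A V ∧ Module.Projective A V := by
  classical
  obtain ⟨t, ht⟩ := h
  obtain ⟨S, rfl⟩ := TensorProduct.exists_finset t
  let π : (S → A) →ₗ[A] V := Fintype.linearCombination A fun i => i.1.2
  let s : V →ₗ[A] (S → A) := LinearMap.pi fun i => i.1.1
  have hπs : π ∘ₗ s = LinearMap.id := LinearMap.ext fun v => by
    rw [LinearMap.id_apply]
    conv_rhs => rw [← LinearMap.id_apply (R := A) v, ← ht, map_sum, LinearMap.sum_apply, ← Finset.sum_coe_sort]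
    simp [π, s, Fintype.linearCombination_apply]
  exact ⟨Module.Finite.of_surjective π fun v => ⟨s v, LinearMap.congr_fun hπs v⟩,
    Module.Projective.of_split s π hπs⟩

theorem mem_span_iota (z : (M ⊗ N).X 0) :
    z ∈ Submodule.span A {z : (M ⊗ N).X 0 | ∃ (p q : ℤ) (h : p + q = 0) (m : M.X p) (y : N.X q),
      z = (ιTensorObj M N p q 0 h).hom (m ⊗ₜ[A] y)} := by
  set S := Submodule.span A {z : (M ⊗ N).X 0 | ∃ (p q : ℤ) (h : p + q = 0) (m : M.X p) (y : N.X q),
      z = (ιTensorObj M N p q 0 h).hom (m ⊗ₜ[A] y)}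
  have h0 : (ModuleCat.ofHom S.mkQ : (M ⊗ N).X 0 ⟶ ModuleCat.of A ((M ⊗ N).X 0 ⧸ S)) = 0 := by
    refine mapBifunctor.hom_ext fun p q h => ?_
    apply ModuleCat.hom_ext
    refine TensorProduct.ext' fun m y => ?_
    exact (Submodule.Quotient.mk_eq_zero S).2 (Submodule.subset_span ⟨p, q, h, m, y, rfl⟩)
  have := congrArg (fun f : (M ⊗ N).X 0 ⟶ ModuleCat.of A ((M ⊗ N).X 0 ⧸ S) => f.hom z) h0
  exact (Submodule.Quotient.mk_eq_zero S).1 this

variable {M N}

theorem ι_rightUnitor_hom (K : DRing.Cx A) (n : ℤ) :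
    ιTensorObj K (𝟙_ (DRing.Cx A)) n 0 n (add_zero n) ≫ (ρ_ K).hom.f n =
      K.X n ◁ (singleObjXSelf (ComplexShape.up ℤ) 0 (𝟙_ (ModuleCat.{u} A))).hom ≫ (ρ_ (K.X n)).hom := by
  have h : (ρ_ K).inv.f n ≫ (ρ_ K).hom.f n = 𝟙 (K.X n) := by
    rw [← HomologicalComplex.comp_f, Iso.inv_hom_id, HomologicalComplex.id_f]
  rw [rightUnitor_inv_f, Category.assoc, Category.assoc, Iso.inv_comp_eq, Category.comp_id] at h
  rw [← h, ← whiskerLeft_comp_assoc, Iso.hom_inv_id, MonoidalCategory.whiskerLeft_id, Category.id_comp]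

variable [ExactPairing M N]

/-- The zigzag on the degree `0` part of `M ⊗ N`. -/
noncomputable def zigPart (n : ℤ) : (M ⊗ N).X 0 ⊗ M.X n ⟶ M.X n :=
  ιTensorObj (M ⊗ N) M 0 n n (zero_add n) ≫
    ((α_ M N M).hom ≫ M ◁ (ExactPairing.evaluation M N) ≫ (ρ_ M).hom).f n

/-- The zigzag as a linear map to endomorphisms. -/
noncomputable def zigEnd (n : ℤ) : (M ⊗ N).X 0 →ₗ[A] Module.End A (M.X n) :=
  TensorProduct.curry (zigPart n).hom

theorem zigEnd_iota (n p q : ℤ) (h : p + q = 0) (m : M.X p) (y : N.X q) :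
    zigEnd n ((ιTensorObj M N p q 0 h).hom (m ⊗ₜ[A] y)) ∈ LinearMap.range (dualTensorHom A (M.X n) (M.X n)) ∧
      (p ≠ n → zigEnd n ((ιTensorObj M N p q 0 h).hom (m ⊗ₜ[A] y)) = 0) := by
  have e : ιTensorObj M N p q 0 h ▷ M.X n ≫ zigPart n =
      (α_ (M.X p) (N.X q) (M.X n)).hom ≫
        M.X p ◁ (ιTensorObj N M q n (q + n) rfl ≫ (ExactPairing.evaluation M N).f (q + n)) ≫
          ιTensorObj M (𝟙_ (DRing.Cx A)) p (q + n) n (by omega) ≫ (ρ_ M).hom.f n := by
    rw [zigPart, ← Category.assoc, ← ι₁₂_eq M N M p q n n (by omega) 0 h, HomologicalComplex.comp_f,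
      HomologicalComplex.comp_f, reassoc_of% (ι₁₂_associator M N M p q n n (by omega)),
      ι₂₃_eq M N M p q n n (by omega) (q + n) rfl]
    simp only [Category.assoc, whiskerLeft_comp]
    rw [reassoc_of% (ι_whiskerLeft M (ExactPairing.evaluation M N) p (q + n) n (by omega))]
  have hx : ∀ x : M.X n, zigEnd n ((ιTensorObj M N p q 0 h).hom (m ⊗ₜ[A] y)) x =
      ((ιTensorObj M N p q 0 h ▷ M.X n ≫ zigPart n).hom ((m ⊗ₜ[A] y) ⊗ₜ[A] x)) := fun x => rfl
  have hne : p ≠ n → zigEnd n ((ιTensorObj M N p q 0 h).hom (m ⊗ₜ[A] y)) = 0 := fun hpn => by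
    refine LinearMap.ext fun x => ?_
    have e0 : (ExactPairing.evaluation M N).f (q + n) = 0 :=
      (isZero_single_obj_X (ComplexShape.up ℤ) 0 _ (q + n) (by omega)).eq_of_tgt _ _
    rw [hx, e, e0]
    simp
  refine ⟨?_, hne⟩
  by_cases hpn : p = n
  · subst hpn
    have hq : q + p = 0 := by omega
    let c : Module.Dual A (M.X p) :=
      (ιTensorObj N M q p 0 hq ≫ (ExactPairing.evaluation M N).f 0 ≫
        (singleObjXSelf (ComplexShape.up ℤ) 0 (𝟙_ (ModuleCat.{u} A))).hom).hom.comp (TensorProduct.mk A _ _ y)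
    refine ⟨c ⊗ₜ[A] m, LinearMap.ext fun x => ?_⟩
    have gen : ∀ (s : ℤ) (hs : q + p = s) (hs' : p + s = p) (_ : s = 0),
        M.X p ◁ (ιTensorObj N M q p s hs ≫ (ExactPairing.evaluation M N).f s) ≫
          ιTensorObj M (𝟙_ (DRing.Cx A)) p s p hs' ≫ (ρ_ M).hom.f p =
        M.X p ◁ (ιTensorObj N M q p 0 hq ≫ (ExactPairing.evaluation M N).f 0 ≫
          (singleObjXSelf (ComplexShape.up ℤ) 0 (𝟙_ (ModuleCat.{u} A))).hom) ≫ (ρ_ (M.X p)).hom := by
      rintro s hs hs' rfl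
      rw [ι_rightUnitor_hom, ← whiskerLeft_comp_assoc, Category.assoc]
    rw [hx, e, gen _ rfl (by omega) hq]
    show dualTensorHom A (M.X p) (M.X p) (c ⊗ₜ[A] m) x = c x • m
    rw [dualTensorHom_apply]
  · rw [hne hpn]
    exact zero_mem _

theorem zigEnd_coev (n : ℤ) : ∀ x : M.X n, zigEnd n
    (((singleObjXSelf (ComplexShape.up ℤ) 0 (𝟙_ (ModuleCat.{u} A))).inv ≫
      (ExactPairing.coevaluation M N).f 0).hom (1 : A)) x = x := by
  intro x
  have h : ((λ_ M).inv ≫ (ExactPairing.coevaluation M N) ▷ M ≫ (α_ M N M).hom ≫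
      M ◁ (ExactPairing.evaluation M N) ≫ (ρ_ M).hom) = 𝟙 M := by
    rw [reassoc_of% (ExactPairing.evaluation_coevaluation M N)]
    simp
  have h' := congrArg (fun f : M ⟶ M => f.f n) h
  simp only [HomologicalComplex.comp_f, HomologicalComplex.id_f, leftUnitor_inv_f, Category.assoc] at h'
  rw [reassoc_of% (ι_whiskerRight (ExactPairing.coevaluation M N) M 0 n n (zero_add n)),
    ← comp_whiskerRight_assoc] at h'
  have := congrArg (fun f : M.X n ⟶ M.X n => f.hom x) h'
  exact this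

theorem dualizable_left (M N : DRing.Cx A) [ExactPairing M N] : (∃ a b : ℤ, DRing.VanishesOutside M a b) ∧ DRing.TermwiseFiniteProjective M := by
  classical
  set e := ((singleObjXSelf (ComplexShape.up ℤ) 0 (𝟙_ (ModuleCat.{u} A))).inv ≫
    (ExactPairing.coevaluation M N).f 0).hom (1 : A) with he
  have hid : ∀ n, zigEnd n e = LinearMap.id := fun n => LinearMap.ext (zigEnd_coev n)
  have hrange : ∀ z : (M ⊗ N).X 0, ∀ n, zigEnd n z ∈ LinearMap.range (dualTensorHom A (M.X n) (M.X n)) := by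
    intro z n
    have hle : Submodule.span A {z : (M ⊗ N).X 0 | ∃ (p q : ℤ) (h : p + q = 0) (m : M.X p) (y : N.X q),
        z = (ιTensorObj M N p q 0 h).hom (m ⊗ₜ[A] y)} ≤
        (LinearMap.range (dualTensorHom A (M.X n) (M.X n))).comap (zigEnd n) := by
      rw [Submodule.span_le]
      rintro _ ⟨p, q, h, m, y, rfl⟩
      exact (zigEnd_iota n p q h m y).1
    exact hle (mem_span_iota M N z)
  have hsupp : ∀ z : (M ⊗ N).X 0, ∃ s : Finset ℤ, ∀ n ∉ s, zigEnd n z = 0 := by
    intro z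
    induction mem_span_iota M N z using Submodule.span_induction with
    | mem z hz =>
      obtain ⟨p, q, h, m, y, rfl⟩ := hz
      exact ⟨{p}, fun n hn => (zigEnd_iota n p q h m y).2 fun e => hn (Finset.mem_singleton.2 e.symm)⟩
    | zero => exact ⟨∅, fun n _ => map_zero _⟩
    | add a b _ _ ha hb =>
      obtain ⟨s, hs⟩ := ha
      obtain ⟨t, ht⟩ := hb
      exact ⟨s ∪ t, fun n hn => by
        rw [Finset.notMem_union] at hn
        rw [map_add, hs n hn.1, ht n hn.2, add_zero]⟩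
    | smul c a _ ha =>
      obtain ⟨s, hs⟩ := ha
      exact ⟨s, fun n hn => by rw [map_smul, hs n hn, smul_zero]⟩
  refine ⟨?_, fun n => finite_projective_of_id_mem_range (hid n ▸ hrange e n)⟩
  obtain ⟨s, hs⟩ := hsupp e
  obtain ⟨a, ha⟩ := s.bddBelow
  obtain ⟨b, hb⟩ := s.bddAbove
  refine ⟨a, b, fun n hn => ?_⟩
  have hns : n ∉ s := fun hm => by have := ha hm; have := hb hm; omega
  haveI : Subsingleton (M.X n) := ⟨fun x y => by
    have h0 : ∀ z : M.X n, z = 0 := fun z => by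
      have := congrArg (fun f : Module.End A (M.X n) => f z) ((hid n).symm.trans (hs n hns))
      exact this
    rw [h0 x, h0 y]⟩
  exact ModuleCat.isZero_of_subsingleton _

end Groth.Agent.KFlat.Mon
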