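import Groth.Agent.KFlat.Mon.BCMonoidal

/-!
`RHom(A, -) ≅ - ⊗^L RHom(A, R)` for a ring map `R → A` with `A` perfect over `R`.
-/

set_option autoImplicit false

universe u

open CategoryTheory CategoryTheory.Limits MonoidalCategory

attribute [local instance] HasDerivedCategory.standard

namespace Groth.Agent.KFlat.Mon

variable {R A : Type u} [CommRing R] [CommRing A] (φ : R →+* A)

/-- Tensoring on the right is the derived tensor product. -/
noncomputable def tensorRightLTen [DTen.HasLTen A] (M : Dual.D A) :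
    tensorRight (dm M) ≅ (show DM A ⥤ DM A from DTen.tensorRightD A M) :=
  (NatIso.ofComponents (fun X => θi X M) fun f => NatTrans.naturality_app (θ A).hom M f).symm

variable [DTen.HasRHomRel φ]

/-- The relative internal hom, on the monoidal categories. -/
noncomputable def HH : DM R ⥤ DM A := DTen.RHomRel φ

/-- The adjunction, on the monoidal categories. -/
noncomputable def adjRel : Res φ ⊣ HH φ := DTen.relAdj φ

theorem nonempty_RHomRel_iso [DTen.HasLTenMix φ] (hA : DRing.IsPerfect R ((DRing.restrictD φ).obj (DTen.unit A))) :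
    Nonempty (DTen.RHomRel φ ≅
      (Functor.curry.obj (DTen.LTenMix φ)).flip.obj ((DTen.RHomRel φ).obj (DTen.unit R))) := by
  have := LBase.hasLBase φ
  have : DTen.HasLTen A := hasLTen
  have : DTen.HasLTen R := hasLTen
  have : ∀ (E : DM A) (K : DM R), IsIso (projM (adjD φ) E K) := isIso_projM φ
  obtain ⟨N, ⟨p⟩⟩ := exists_pairing_of_isPerfect hA
  let : ExactPairing ((Res φ).obj (𝟙_ (DM A))) N := p
  let : ExactPairing N ((Res φ).obj (𝟙_ (DM A))) := BraidedCategory.exactPairing_swap _ N
  obtain ⟨e₁⟩ := nonempty_rel_iso (adjD φ) (adjRel φ) N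
  let M : Dual.D A := (DTen.RHomRel φ).obj (DTen.unit R)
  let e₂ : LB φ ⋙ tensorLeft (dm M) ≅ LB φ ⋙ (show DM A ⥤ DM A from DTen.tensorRightD A M) :=
    Functor.isoWhiskerLeft (LB φ) (BraidedCategory.tensorLeftIsoTensorRight (dm M) ≪≫ tensorRightLTen M)
  have hs : ∀ K : Dual.D R, IsIso ((DTen.split φ).app (K, M)) := fun K => Mix.isIso_split φ (K, M)
  let e₃ : DTen.LBase φ ⋙ DTen.tensorRightD A M ≅ (Functor.curry.obj (DTen.LTenMix φ)).flip.obj M :=
    NatIso.ofComponents (fun K => @asIso _ _ _ _ ((DTen.split φ).app (K, M)) (hs K)) fun {K K'} k => by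
      have h := (DTen.split φ).naturality (Prod.mkHom k (𝟙 M))
      refine Eq.trans ?_ h
      refine congrArg (fun t => t ≫ _) ?_
      refine (DTen.LTen₂ A).congr_map ?_
      exact Prod.ext rfl (CategoryTheory.Functor.map_id (𝟭 (Dual.D A)) M).symm
  exact ⟨(show DTen.RHomRel φ ≅ DTen.LBase φ ⋙ DTen.tensorRightD A M from e₁ ≪≫ e₂) ≪≫ e₃⟩

end Groth.Agent.KFlat.Mon
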